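import Cfsg.Agent.H698.Fine
import Cfsg.Agent.H912.Bd2
import Cfsg.Prelude.Def_KGroupFacts

/-!
# From `Rep` to the bounds `Bd` / `PR` through the Schur multiplier
-/

set_option autoImplicit false

namespace Cfsg.Agent.H698

universe u v

open Cfsg.Agent.H912.Bd
open scoped commutatorElement

/-- The kernel of a perfect central extension has order prime to `r` if the Schur multiplier has. -/
theorem ker_coprime {T : Type u} [Group T] {A : Type v} [CommGroup A] (hM : Cfsg.HasSchurMultiplier T A)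
    {r : ℕ} (hA : (Nat.card A).Coprime r) {P : Type u} [Group P] [Finite P] (π : P →* T)
    (hπ : Function.Surjective π) (hc : π.ker ≤ Subgroup.center P) (hP : commutator P = ⊤) :
    (Nat.card π.ker).Coprime r := by
  obtain ⟨f, hf⟩ := hM.2 P π ⟨hπ, hc, by rw [hP]; exact le_top⟩
  have h1 : Nat.card π.ker ∣ Nat.card A := Subgroup.card_dvd_of_surjective f hf
  exact Nat.Coprime.coprime_dvd_left h1 hA

theorem Rep.exists_PR {p m r : ℕ} {T : Type u} [Group T] (h : Rep.{u, u} p m T) {A : Type v} [CommGroup A]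
    (hM : Cfsg.HasSchurMultiplier T A) (hA : (Nat.card A).Coprime r) :
    ∃ (F : Type u) (_ : Field F) (_ : Finite F) (_ : CharP F p), PR F m r T := by
  obtain ⟨F, _, _, _, P, _, _, π, ρ, h1, h2, h3, h4, h5⟩ := h
  refine ⟨F, inferInstance, inferInstance, inferInstance, P, inferInstance, π, ρ, h1, ?_, ker_coprime hM hA π h1 h2 h3, ?_⟩
  · intro x hx y
    exact ((Subgroup.mem_center_iff.1 (h2 hx)) y).symm
  · rw [(MonoidHom.ker_eq_bot_iff ρ).2 h4]
    exact bot_le

/-- The lower bounds `Bd` apply when the Schur multiplier has order prime to `r`. -/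
theorem Rep.le_of_Bd {p m r d : ℕ} {T : Type u} [Group T] (hp : p.Prime) (hr : r.Prime) (hrT : r ∣ Nat.card T)
    (hpT : ¬ p ∣ Nat.card T) (h : Rep.{u, u} p m T) {A : Type v} [CommGroup A]
    (hM : Cfsg.HasSchurMultiplier T A) (hA : (Nat.card A).Coprime r)
    (hB : ∀ (F : Type u) [Field F], (r : F) ≠ 0 → Bd F r d T) : d ≤ m := by
  obtain ⟨F, _, _, _, hPR⟩ := h.exists_PR hM hA
  refine hB F ?_ m hPR
  rw [Ne, CharP.cast_eq_zero_iff F p]
  intro h6
  rw [Nat.prime_dvd_prime_iff_eq hp hr] at h6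
  exact hpT (h6 ▸ hrT)

/-- Restriction to a simple subgroup `S` of `T`. -/
theorem Rep.sub {p m : ℕ} {T : Type u} [Group T] [Finite T] (h : Rep.{u, u} p m T) {S : Type u} [Group S]
    [IsSimpleGroup S] (hS : ¬ IsMulCommutative S) (f : S →* T) (hf : Function.Injective f) : Rep.{u, u} p m S := by
  obtain ⟨F, _, _, _, P, _, _, π, ρ, h1, h2, h3, h4, h5⟩ := h
  -- the preimage of `S`, and the last term of its derived series
  let Q₀ : Subgroup P := f.range.comap π
  let e : S ≃* f.range := MonoidHom.ofInjective hf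
  let π₀ : Q₀ →* S := e.symm.toMonoidHom.comp ((π.comp Q₀.subtype).codRestrict f.range (fun x => x.2))
  have hπ₀ : Function.Surjective π₀ := by
    intro s
    obtain ⟨x, hx⟩ := h1 (f s)
    refine ⟨⟨x, ⟨s, hx.symm⟩⟩, ?_⟩
    change e.symm _ = s
    rw [MulEquiv.symm_apply_eq]
    exact Subtype.ext hx
  have hker : ∀ x : Q₀, π₀ x = 1 → π (x : P) = 1 := by
    intro x hx
    have h6 : e.symm ((π.comp Q₀.subtype).codRestrict f.range (fun x => x.2) x) = 1 := hx
    rw [MulEquiv.map_eq_one_iff] at h6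
    exact congrArg Subtype.val h6
  have hcomm : commutator S = ⊤ := by
    rcases (inferInstance : (commutator S).Normal).eq_bot_or_eq_top with h6 | h6
    · exfalso
      apply hS
      refine ⟨⟨fun a b => ?_⟩⟩
      have h7 : ⁅a, b⁆ ∈ commutator S := Subgroup.commutator_mem_commutator (Subgroup.mem_top _) (Subgroup.mem_top _)
      rw [h6, Subgroup.mem_bot, commutatorElement_eq_one_iff_mul_comm] at h7
      exact h7
    · exact h6
  -- the commutator subgroup is perfect and maps onto `S`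
  let D₁ : Subgroup Q₀ := commutator Q₀
  have hD₁ : D₁.map π₀ = ⊤ := by
    change (commutator Q₀).map π₀ = ⊤
    rw [commutator_def, Subgroup.map_commutator, ← MonoidHom.range_eq_map, MonoidHom.range_eq_top.2 hπ₀,
      ← commutator_def, hcomm]
  have hcen : ∀ x : Q₀, π₀ x = 1 → ∀ y : Q₀, x * y = y * x := by
    intro x hx y
    have h6 := h2 (MonoidHom.mem_ker.2 (hker x hx))
    exact Subtype.ext ((Subgroup.mem_center_iff.1 h6) y).symm
  have hdec : ∀ x : Q₀, ∃ d ∈ D₁, ∃ c : Q₀, π₀ c = 1 ∧ x = d * c := by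
    intro x
    have h6 : π₀ x ∈ D₁.map π₀ := by rw [hD₁]; trivial
    obtain ⟨d, hd, hdx⟩ := h6
    exact ⟨d, hd, d⁻¹ * x, by rw [map_mul, map_inv, hdx, inv_mul_cancel], by group⟩
  have hperf : ⁅D₁, D₁⁆ = D₁ := by
    refine le_antisymm (Subgroup.commutator_le_left D₁ D₁) ?_
    change commutator Q₀ ≤ _
    rw [commutator_def, Subgroup.commutator_le]
    intro x _ y _
    obtain ⟨d, hd, c, hc, rfl⟩ := hdec x
    obtain ⟨d', hd', c', hc', rfl⟩ := hdec y
    have e1 : ∀ z, c * z = z * c := hcen c hc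
    have e2 : ∀ z, c' * z = z * c' := hcen c' hc'
    have e3 : ⁅d * c, d' * c'⁆ = ⁅d, d'⁆ := by
      rw [commutatorElement_def, commutatorElement_def]
      have e4 : d * c * (d' * c') = c * c' * (d * d') := by
        calc d * c * (d' * c') = (c * d) * (c' * d') := by rw [e1 d, e2 d']
          _ = c * (d * c') * d' := by group
          _ = c * (c' * d) * d' := by rw [e2 d]
          _ = c * c' * (d * d') := by group
      rw [e4, mul_inv_rev, mul_inv_rev]
      have e5 : (c⁻¹ * d⁻¹) * (c'⁻¹ * d'⁻¹) = (d⁻¹ * d'⁻¹) * (c * c')⁻¹ := by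
        have e6 : ∀ z, c⁻¹ * z = z * c⁻¹ := fun z => by
          rw [inv_mul_eq_iff_eq_mul, ← mul_assoc, e1 z, mul_inv_cancel_right]
        have e7 : ∀ z, c'⁻¹ * z = z * c'⁻¹ := fun z => by
          rw [inv_mul_eq_iff_eq_mul, ← mul_assoc, e2 z, mul_inv_cancel_right]
        rw [mul_inv_rev]
        calc (c⁻¹ * d⁻¹) * (c'⁻¹ * d'⁻¹) = (d⁻¹ * c⁻¹) * (d'⁻¹ * c'⁻¹) := by rw [e6 d⁻¹, e7 d'⁻¹]
          _ = d⁻¹ * (c⁻¹ * d'⁻¹) * c'⁻¹ := by group
          _ = d⁻¹ * (d'⁻¹ * c⁻¹) * c'⁻¹ := by rw [e6 d'⁻¹]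
          _ = d⁻¹ * d'⁻¹ * (c⁻¹ * c'⁻¹) := by group
          _ = d⁻¹ * d'⁻¹ * (c'⁻¹ * c⁻¹) := by rw [e6 c'⁻¹]
      have e8 : ∀ z, (c * c') * z = z * (c * c') := fun z => by
        rw [mul_assoc, e2 z, ← mul_assoc, e1 z, mul_assoc]
      have e9 : c * c' * (d * d') * (c⁻¹ * d⁻¹) * (c'⁻¹ * d'⁻¹) = c * c' * (d * d') * ((d⁻¹ * d'⁻¹) * (c * c')⁻¹) := by
        rw [mul_assoc (c * c' * (d * d')), e5]
      rw [e9, e8 (d * d')]
      have e10 : (d⁻¹ * d'⁻¹) * (c * c')⁻¹ = (c * c')⁻¹ * (d⁻¹ * d'⁻¹) := by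
        rw [eq_inv_mul_iff_mul_eq, ← mul_assoc, e8, mul_assoc, mul_inv_cancel, mul_one]
      rw [e10]
      group
    rw [e3]
    exact Subgroup.commutator_mem_commutator hd hd'
  refine ⟨F, inferInstance, inferInstance, inferInstance, D₁, inferInstance, inferInstance, π₀.comp D₁.subtype,
    (ρ.comp Q₀.subtype).comp D₁.subtype, ?_, ?_, ?_, ?_, ?_⟩
  · intro s
    have h6 : s ∈ D₁.map π₀ := by rw [hD₁]; trivial
    obtain ⟨d, hd, rfl⟩ := h6
    exact ⟨⟨d, hd⟩, rfl⟩
  · intro x hx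
    rw [Subgroup.mem_center_iff]
    intro y
    exact Subtype.ext (hcen (x : Q₀) hx y).symm
  · have h6 := congrArg (Subgroup.comap D₁.subtype) hperf
    rw [commutator_def, eq_top_iff]
    intro x _
    have h7 : (x : Q₀) ∈ ⁅D₁, D₁⁆ := by rw [hperf]; exact x.2
    have h8 : (⁅(⊤ : Subgroup D₁), (⊤ : Subgroup D₁)⁆).map D₁.subtype = ⁅D₁, D₁⁆ := by
      rw [Subgroup.map_commutator, ← MonoidHom.range_eq_map, Subgroup.range_subtype]
    rw [← h8] at h7
    obtain ⟨y, hy, hyx⟩ := h7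
    rwa [← Subtype.ext (show (y : Q₀) = x from hyx)]
  · intro a b hab
    exact Subtype.ext (Subtype.ext (h4 hab))
  · intro h6
    exact h5 ((h6.trans (Subgroup.card_subgroup_dvd_card D₁)).trans (Subgroup.card_subgroup_dvd_card Q₀))

end Cfsg.Agent.H698
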