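import Mathlib
import Cfsg.Agent.GpLn.Rank

/-!
# Groups with at most two orbits on the nonzero elements of an elementary abelian group
-/

set_option autoImplicit false

namespace Cfsg.Agent.H698.Orb

universe u v

variable {D : Type v} {E : Type u} [Group D] [AddCommGroup E] [DistribMulAction D E]

/-- At most two orbits on the nonzero elements. -/
def TwoOrb (D : Type v) (E : Type u) [Group D] [AddCommGroup E] [DistribMulAction D E] : Prop :=
  ∃ x y : E, ∀ e : E, e ≠ 0 → (∃ d : D, d • x = e) ∨ (∃ d : D, d • y = e)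

/-- Three nonzero elements cannot be separated. -/
theorem TwoOrb.three (h : TwoOrb D E) {α : Type*} (f : E → α) (hf : ∀ (d : D) (e : E), f (d • e) = f e) {a b c : E}
    (ha : a ≠ 0) (hb : b ≠ 0) (hc : c ≠ 0) : f a = f b ∨ f a = f c ∨ f b = f c := by
  obtain ⟨x, y, hxy⟩ := h
  have key : ∀ e : E, e ≠ 0 → f e = f x ∨ f e = f y := by
    intro e he
    rcases hxy e he with ⟨d, rfl⟩ | ⟨d, rfl⟩
    · exact Or.inl (hf d x)
    · exact Or.inr (hf d y)
  rcases key a ha with h1 | h1 <;> rcases key b hb with h2 | h2 <;> rcases key c hc with h3 | h3 <;>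
    simp [h1, h2, h3]

/-- Two nonzero elements in different orbits: every nonzero element is in one of them. -/
theorem TwoOrb.cover (h : TwoOrb D E) {s t : E} (hs : s ≠ 0) (ht : t ≠ 0) (hst : ∀ d : D, d • s ≠ t) {e : E}
    (he : e ≠ 0) : (∃ d : D, d • s = e) ∨ (∃ d : D, d • t = e) := by
  rcases h.three (fun e => MulAction.orbit D e) (fun d e => by rw [MulAction.orbit_smul]) hs ht he with h1 | h1 | h1
  · exfalso
    have h2 : t ∈ MulAction.orbit D s := by rw [h1]; exact MulAction.mem_orbit_self t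
    obtain ⟨d, hd⟩ := h2
    exact hst d hd
  · left
    have h2 : e ∈ MulAction.orbit D s := by rw [h1]; exact MulAction.mem_orbit_self e
    exact h2
  · right
    have h2 : e ∈ MulAction.orbit D t := by rw [h1]; exact MulAction.mem_orbit_self e
    exact h2

theorem smul_ne {d : D} {e : E} (he : e ≠ 0) : d • e ≠ 0 := fun h => he ((smul_eq_zero_iff_eq d).1 h)

/-- An invariant nonempty set of nonzero elements has size prime to `p`. -/
theorem TwoOrb.not_dvd [Finite D] [Finite E] [Nontrivial E] (h : TwoOrb D E) {p : ℕ} (hp : p.Prime)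
    (hpE : ∀ e : E, p • e = 0) (hcop : ¬ p ∣ Nat.card D) (S : Set E) (hS : ∀ (d : D), ∀ e ∈ S, d • e ∈ S)
    (h0 : (0 : E) ∉ S) (hne : S.Nonempty) : ¬ p ∣ S.ncard := by
  obtain ⟨s, hs⟩ := hne
  have hs0 : s ≠ 0 := fun h => h0 (h ▸ hs)
  by_cases hO : S ⊆ MulAction.orbit D s
  · have h1 : S = MulAction.orbit D s := by
      refine Set.Subset.antisymm hO ?_
      rintro _ ⟨d, rfl⟩
      exact hS d s hs
    rw [h1, ← MulAction.index_stabilizer]
    intro h2
    exact hcop (h2.trans (Subgroup.index_dvd_card _))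
  · obtain ⟨t, htS, ht⟩ := Set.not_subset.1 hO
    have ht0 : t ≠ 0 := fun h => h0 (h ▸ htS)
    have h1 : S = {(0 : E)}ᶜ := by
      ext e
      rw [Set.mem_compl_iff, Set.mem_singleton_iff]
      constructor
      · rintro he rfl
        exact h0 he
      · intro he
        rcases h.cover hs0 ht0 (fun d hd => ht ⟨d, hd⟩) he with ⟨d, rfl⟩ | ⟨d, rfl⟩
        · exact hS d s hs
        · exact hS d t htS
    rw [h1, Set.ncard_compl, Set.ncard_singleton]
    have h2 : p ∣ Nat.card E := by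
      obtain ⟨v, hv⟩ := exists_ne (0 : E)
      have h3 : addOrderOf v = p := by
        rcases (Nat.dvd_prime hp).1 (addOrderOf_dvd_of_nsmul_eq_zero (hpE v)) with h4 | h4
        · exact absurd (AddMonoid.addOrderOf_eq_one_iff.1 h4) hv
        · exact h4
      rw [← h3]
      exact addOrderOf_dvd_natCard v
    intro h3
    have h4 : 0 < Nat.card E := Nat.card_pos
    have h5 : p ∣ 1 := by
      have h6 := Nat.dvd_sub h2 h3
      rwa [Nat.sub_sub_self h4] at h6
    exact hp.one_lt.ne' (Nat.dvd_one.1 h5)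

/-- Invariance under a subgroup. -/
def Inv (N : Subgroup D) (W : AddSubgroup E) : Prop := ∀ n ∈ N, ∀ w ∈ W, n • w ∈ W

/-- **Maschke.** -/
theorem exists_compl [Finite D] {p : ℕ} (hp : p.Prime) (hpE : ∀ e : E, p • e = 0) (hcop : ¬ p ∣ Nat.card D)
    (N : Subgroup D) (W : AddSubgroup E) (hW : Inv N W) : ∃ W' : AddSubgroup E, Inv N W' ∧ IsCompl W W' := by
  have : Fact p.Prime := ⟨hp⟩
  let _ : Module (ZMod p) E := AddCommGroup.zmodModule (n := p) hpE
  let φ : N →* (E →ₗ[ZMod p] E) :=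
    { toFun := fun g => AddMonoidHom.toZModLinearMap p (DistribMulAction.toAddMonoidEnd D E (g : D))
      map_one' := by
        refine LinearMap.ext fun v => ?_
        exact one_smul D v
      map_mul' := fun g g' => by
        refine LinearMap.ext fun v => ?_
        exact mul_smul (g : D) (g' : D) v }
  have hφ : ∀ (g : N) (e : E), φ g e = (g : D) • e := fun _ _ => rfl
  let e := AddSubgroup.toZModSubmodule p (M := E)
  obtain ⟨W', h1, h2⟩ := Cfsg.Agent.GpLn.Rank.exists_compl φ (by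
    rw [Ne, ZMod.natCast_eq_zero_iff]
    exact fun h => hcop (h.trans (Subgroup.card_subgroup_dvd_card N))) (e W) (fun g w hw => hW g g.2 w hw)
  refine ⟨W'.toAddSubgroup, fun n hn w hw => h1 ⟨n, hn⟩ w hw, ?_⟩
  have h3 := (OrderIso.isCompl_iff e.symm).1 h2
  rwa [OrderIso.symm_apply_apply] at h3

/-- Irreducibility. -/
theorem TwoOrb.eq_bot_or_top [Finite D] (h : TwoOrb D E) {p : ℕ} (hp : p.Prime)
    (hpE : ∀ e : E, p • e = 0) (hcop : ¬ p ∣ Nat.card D) (W : AddSubgroup E) (hW : Inv (⊤ : Subgroup D) W) :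
    W = ⊥ ∨ W = ⊤ := by
  by_contra hcon
  rw [not_or] at hcon
  obtain ⟨W', hW', hc⟩ := exists_compl hp hpE hcop ⊤ W hW
  obtain ⟨⟨a, ha⟩, ha0⟩ := AddSubgroup.ne_bot_iff_exists_ne_zero.1 hcon.1
  have hW'b : W' ≠ ⊥ := by
    rintro rfl
    exact hcon.2 (by have := hc.sup_eq_top; rwa [sup_bot_eq] at this)
  obtain ⟨⟨b, hb⟩, hb0⟩ := AddSubgroup.ne_bot_iff_exists_ne_zero.1 hW'b
  have ha0' : a ≠ 0 := fun h => ha0 (Subtype.ext h)
  have hb0' : b ≠ 0 := fun h => hb0 (Subtype.ext h)
  have hdisj : ∀ {x : E}, x ∈ W → x ∈ W' → x = 0 := AddSubgroup.disjoint_def.1 hc.disjoint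
  have hbW : b ∉ W := fun h => hb0' (hdisj h hb)
  have haW' : a ∉ W' := fun h => ha0' (hdisj ha h)
  have hab : a + b ≠ 0 := by
    intro h
    apply haW'
    rw [eq_neg_of_add_eq_zero_left h]
    exact W'.neg_mem hb
  have habW : a + b ∉ W := fun h => hbW (by simpa using W.sub_mem h ha)
  have habW' : a + b ∉ W' := fun h => haW' (by simpa using W'.sub_mem h hb)
  have hinv : ∀ (V : AddSubgroup E), Inv (⊤ : Subgroup D) V → ∀ (d : D) (e : E), d • e ∈ V ↔ e ∈ V := by
    intro V hV d e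
    constructor
    · intro h
      have := hV d⁻¹ trivial _ h
      rwa [inv_smul_smul] at this
    · exact hV d trivial e
  rcases h.three (fun e => (e ∈ W, e ∈ W')) (fun d e => by
    rw [Prod.mk.injEq]
    exact ⟨propext (hinv W hW d e), propext (hinv W' hW' d e)⟩) ha0' hb0' hab with h1 | h1 | h1
  · rw [Prod.mk.injEq] at h1
    exact hbW (h1.1 ▸ ha)
  · rw [Prod.mk.injEq] at h1
    exact habW (h1.1 ▸ ha)
  · rw [Prod.mk.injEq] at h1
    exact habW' (h1.2 ▸ hb)

end Cfsg.Agent.H698.Orb
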