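import Mathlib
import Cfsg.Agent.H698.Orb
import Cfsg.Agent.H697.ClassCount

/-!
# Counting classes relative to an abelian normal subgroup
-/

set_option autoImplicit false

namespace Cfsg.Agent.H698.Count

open Cfsg.Agent.H698.Orb Cfsg.Agent.H697

universe u v

/-- Two orbits: `|E| - 1 ≤ 2 |D|`. -/
theorem card_le {D : Type v} {E : Type u} [Group D] [AddCommGroup E] [DistribMulAction D E] [Finite D] [Finite E]
    (h : TwoOrb D E) : Nat.card E ≤ 2 * Nat.card D + 1 := by
  classical
  obtain ⟨x, y, hxy⟩ := h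
  have hsub : (Set.univ : Set E) ⊆ {0} ∪ (MulAction.orbit D x ∪ MulAction.orbit D y) := by
    intro e _
    by_cases he : e = 0
    · exact Or.inl he
    · right
      rcases hxy e he with h | h
      · exact Or.inl h
      · exact Or.inr h
  have hle : ∀ v : E, (MulAction.orbit D v).ncard ≤ Nat.card D := by
    intro v
    rw [← MulAction.index_stabilizer]
    exact Nat.le_of_dvd Nat.card_pos (Subgroup.index_dvd_card _)
  calc Nat.card E = (Set.univ : Set E).ncard := (Set.ncard_univ E).symm
    _ ≤ ({0} ∪ (MulAction.orbit D x ∪ MulAction.orbit D y) : Set E).ncard := Set.ncard_le_ncard hsub (Set.toFinite _)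
    _ ≤ ({0} : Set E).ncard + (MulAction.orbit D x ∪ MulAction.orbit D y : Set E).ncard := Set.ncard_union_le _ _
    _ ≤ 1 + ((MulAction.orbit D x).ncard + (MulAction.orbit D y).ncard) := by
        gcongr
        · rw [Set.ncard_singleton]
        · exact Set.ncard_union_le _ _
    _ ≤ 2 * Nat.card D + 1 := by
        have := hle x
        have := hle y
        omega

/-- Classes inside and outside an abelian normal subgroup with centralizer of index at most `a`. -/
theorem count {D : Type v} [Group D] [Finite D] (A : Subgroup D) [A.Normal] {a : ℕ}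
    (ha : (Subgroup.centralizer (A : Set D)).index ≤ a) :
    ∃ z : ℕ, Nat.card A ≤ a * z ∧ z + Nat.card (ConjClasses (D ⧸ A)) ≤ Nat.card (ConjClasses D) + 1 := by
  classical
  have := Fintype.ofFinite D
  have := Fintype.ofFinite (ConjClasses D)
  have := Fintype.ofFinite (ConjClasses (D ⧸ A))
  let f : ConjClasses D → ConjClasses (D ⧸ A) := ConjClasses.map (QuotientGroup.mk' A)
  let S : Finset (ConjClasses D) := Finset.univ.filter fun c => f c = ConjClasses.mk (1 : D ⧸ A)
  have hmem : ∀ x : D, ConjClasses.mk x ∈ S ↔ x ∈ A := by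
    intro x
    rw [Finset.mem_filter]
    have h1 : f (ConjClasses.mk x) = ConjClasses.mk ((x : D) : D ⧸ A) := rfl
    rw [h1, ConjClasses.mk_eq_mk_iff_isConj, isConj_comm, isConj_one_right, QuotientGroup.eq_one_iff]
    exact ⟨fun h => h.2, fun h => ⟨Finset.mem_univ _, h⟩⟩
  refine ⟨S.card, ?_, ?_⟩
  · have h1 : Nat.card A = (Finset.univ.filter fun x : D => x ∈ A).card := by
      rw [Nat.card_eq_fintype_card, ← Fintype.card_subtype]
    rw [h1]
    refine Finset.card_le_mul_card_image_of_maps_to (f := fun x : D => ConjClasses.mk x) (t := S)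
      (fun x hx => (hmem x).2 (Finset.mem_filter.1 hx).2) a ?_
    intro c hc
    by_cases hne : ∃ x, x ∈ (Finset.univ.filter fun x : D => x ∈ A) ∧ ConjClasses.mk x = c
    · obtain ⟨x, hx, rfl⟩ := hne
      have hxA : x ∈ A := (Finset.mem_filter.1 hx).2
      have h2 : (Subgroup.centralizer ({x} : Set D)).index ≤ a := by
        refine le_trans (Nat.le_of_dvd (Nat.pos_of_ne_zero Subgroup.index_ne_zero_of_finite)
          (Subgroup.index_dvd_of_le ?_)) ha
        exact Subgroup.centralizer_le (Set.singleton_subset_iff.2 hxA)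
      rw [ClassCount.index_centralizer] at h2
      refine le_trans ?_ h2
      rw [Set.ncard_eq_toFinset_card']
      refine Finset.card_le_card fun y hy => ?_
      rw [Set.mem_toFinset, ConjClasses.mem_carrier_iff_mk_eq]
      exact (Finset.mem_filter.1 hy).2
    · rw [Finset.card_eq_zero.2]
      · exact Nat.zero_le _
      · rw [Finset.eq_empty_iff_forall_notMem]
        intro x hx
        exact hne ⟨x, (Finset.mem_filter.1 hx).1, (Finset.mem_filter.1 hx).2⟩
  · have h2 : (Finset.univ.erase (ConjClasses.mk (1 : D ⧸ A))).card ≤ Sᶜ.card := by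
      refine Finset.card_le_card_of_surjOn f ?_
      intro c hc
      rw [Finset.mem_coe, Finset.mem_erase] at hc
      obtain ⟨q, rfl⟩ := ConjClasses.mk_surjective c
      obtain ⟨x, rfl⟩ := QuotientGroup.mk_surjective q
      refine ⟨ConjClasses.mk x, ?_, rfl⟩
      rw [Finset.mem_coe, Finset.mem_compl, Finset.mem_filter]
      exact fun h => hc.1 h.2
    rw [Finset.card_erase_of_mem (Finset.mem_univ _), Finset.card_univ, Finset.card_compl] at h2
    rw [Nat.card_eq_fintype_card, Nat.card_eq_fintype_card]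
    have h3 : S.card ≤ Fintype.card (ConjClasses D) := Finset.card_le_univ S
    omega

/-- An abelian subgroup of small index. -/
theorem of_abelian {D : Type v} [Group D] [Finite D] {p n : ℕ} (hp : 2 ≤ p) (hn : 1 ≤ n)
    (hD : p ^ n ≤ 2 * Nat.card D + 1) (B : Subgroup D)
    (hB : ∀ a ∈ B, ∀ b ∈ B, a * b = b * a) {c : ℕ} (hc : B.index ≤ c) (hcp : c ^ 2 < p ^ (n - 1)) :
    p ≤ 2 * Nat.card (ConjClasses D) := by
  by_contra hcon
  push Not at hcon
  have h1 := ClassCount.card_le_mul_index B hB
  have h2 := B.card_mul_index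
  have h3 : Nat.card D ≤ c ^ 2 * Nat.card (ConjClasses D) := by
    calc Nat.card D = Nat.card B * B.index := h2.symm
      _ ≤ (B.index * Nat.card (ConjClasses D)) * B.index := Nat.mul_le_mul_right _ h1
      _ = B.index ^ 2 * Nat.card (ConjClasses D) := by ring
      _ ≤ c ^ 2 * Nat.card (ConjClasses D) := Nat.mul_le_mul_right _ (Nat.pow_le_pow_left hc 2)
  obtain ⟨k, rfl⟩ : ∃ k, n = k + 1 := ⟨n - 1, by omega⟩
  rw [Nat.add_sub_cancel] at hcp
  obtain ⟨q, rfl⟩ : ∃ q, p = q + 1 := ⟨p - 1, by omega⟩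
  have h4 : 2 * Nat.card (ConjClasses D) ≤ q := by omega
  have h5 : 2 * Nat.card D ≤ c ^ 2 * q := by
    calc 2 * Nat.card D ≤ 2 * (c ^ 2 * Nat.card (ConjClasses D)) := Nat.mul_le_mul_left _ h3
      _ = c ^ 2 * (2 * Nat.card (ConjClasses D)) := by ring
      _ ≤ c ^ 2 * q := Nat.mul_le_mul_left _ h4
  have h6 : (q + 1) ^ (k + 1) ≤ c ^ 2 * q + 1 := by omega
  have h7 : c ^ 2 + 1 ≤ (q + 1) ^ k := hcp
  have h8 : (c ^ 2 + 1) * (q + 1) ≤ (q + 1) ^ (k + 1) := by
    rw [pow_succ]
    exact Nat.mul_le_mul_right _ h7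
  nlinarith [h8, h6]

end Cfsg.Agent.H698.Count
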