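import Mathlib
import Cfsg.Agent.H698.Orb
import Cfsg.Agent.H717.FieldOf

/-!
# Enveloping rings: pure vectors

For an isotypic module over a subring of the endomorphism ring, the number of generators of a non-simple cyclic
submodule is divisible by `p`.
-/

set_option autoImplicit false

namespace Cfsg.Agent.H698.Env

open Cfsg.Agent.H717.FieldOf Cfsg.Agent.H698.Orb Submodule

universe u v

/-! ### Generators of a cyclic module -/

section Gen

variable {R : Type*} {M : Type*} [Ring R] [AddCommGroup M] [Module R M]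

/-- A nilpotent endomorphism moves the generators. -/
theorem dvd_card_gen [Finite M] {p : ℕ} (hp : p.Prime) (hpM : ∀ m : M, p • m = 0) (U : Submodule R M)
    (ψ : U →ₗ[R] U) (h2 : ∀ x, ψ (ψ x) = 0) (h0 : ψ ≠ 0) : p ∣ {w : M | span R {w} = U}.ncard := by
  classical
  have : Fact p.Prime := ⟨hp⟩
  let S : Set M := {w : M | span R {w} = U}
  have hmem : ∀ w : S, (w : M) ∈ U := fun w => by
    have h : span R {(w : M)} = U := w.2
    rw [← h]
    exact mem_span_singleton_self (w : M)
  have hk : ∀ (w : S) (y : M), y = (w : M) + ψ ⟨w, hmem w⟩ → y ∈ S := by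
    rintro w _ rfl
    have hw : span R {(w : M)} = U := w.2
    change span R {(w : M) + ψ ⟨w, hmem w⟩} = U
    apply le_antisymm
    · rw [span_singleton_le_iff_mem]
      exact U.add_mem (hmem w) (ψ _).2
    · have h3 : (ψ ⟨w, hmem w⟩ : M) ∈ span R {(w : M) + ψ ⟨w, hmem w⟩} := by
        have h4 : ((ψ ⟨w, hmem w⟩ : U) : M) ∈ span R {(w : M)} := by rw [hw]; exact (ψ _).2
        obtain ⟨r, hr⟩ := mem_span_singleton.1 h4
        rw [mem_span_singleton]
        refine ⟨r, ?_⟩
        have h5 : (r • ψ ⟨w, hmem w⟩ : U) = 0 := by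
          rw [← map_smul]
          have h6 : (r • (⟨w, hmem w⟩ : U)) = ψ ⟨w, hmem w⟩ := Subtype.ext hr
          rw [h6]
          exact h2 _
        have h7 : r • ((ψ ⟨w, hmem w⟩ : U) : M) = 0 := congrArg Subtype.val h5
        rw [smul_add, h7, add_zero, hr]
      have h5 : (w : M) ∈ span R {(w : M) + ψ ⟨w, hmem w⟩} := by
        have := sub_mem (mem_span_singleton_self ((w : M) + ψ ⟨w, hmem w⟩)) h3
        rwa [add_sub_cancel_right] at this
      exact hw.symm.le.trans ((span_singleton_le_iff_mem _ _).2 h5)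
  let f : Function.End S := fun w => ⟨(w : M) + ψ ⟨w, hmem w⟩, hk w _ rfl⟩
  have hf : ∀ (k : ℕ) (w : S), (((f ^ k) w : S) : M) = (w : M) + k • (ψ ⟨w, hmem w⟩ : M) := by
    intro k
    induction k with
    | zero =>
      intro w
      rw [pow_zero, zero_smul, add_zero]
      rfl
    | succ k ih =>
      intro w
      rw [pow_succ]
      change (((f ^ k) (f w) : S) : M) = _
      rw [ih]
      have h3 : (⟨(f w : M), hmem (f w)⟩ : U) = ⟨w, hmem w⟩ + ψ ⟨w, hmem w⟩ := Subtype.ext rfl
      rw [h3, map_add, h2, add_zero, succ_nsmul']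
      change (w : M) + ψ ⟨w, hmem w⟩ + k • _ = _
      rw [add_assoc]
  have hfp : f ^ p ^ 1 = 1 := by
    rw [pow_one]
    funext w
    apply Subtype.ext
    rw [hf, hpM, add_zero]
    rfl
  have hfin : Finite S := inferInstance
  have : Fintype S := Fintype.ofFinite S
  have h3 := Equiv.Perm.card_fixedPoints_modEq hfp
  have h4 : IsEmpty f.fixedPoints := by
    constructor
    rintro ⟨w, hw⟩
    have h5 : f w = w := hw
    have h6 : (w : M) + ψ ⟨w, hmem w⟩ = w := congrArg Subtype.val h5
    have h7 : ψ ⟨w, hmem w⟩ = 0 := Subtype.ext (by simpa using h6)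
    apply h0
    refine LinearMap.ext fun x => ?_
    have hw' : span R {(w : M)} = U := w.2
    have h8 : (x : M) ∈ span R {(w : M)} := by rw [hw']; exact x.2
    obtain ⟨r, hr⟩ := mem_span_singleton.1 h8
    have h9 : x = r • (⟨w, hmem w⟩ : U) := Subtype.ext hr.symm
    rw [h9, map_smul, h7, smul_zero]
    rfl
  have h5 : Fintype.card f.fixedPoints = 0 := Fintype.card_eq_zero_iff.2 h4
  rw [h5] at h3
  change p ∣ S.ncard
  rw [Set.ncard_eq_toFinset_card', Set.toFinset_card]
  exact (Nat.modEq_zero_iff_dvd).1 h3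

/-- A semisimple isotypic module which is not simple has a nilpotent endomorphism. -/
theorem exists_nilp [IsSemisimpleModule R M] (hiso : IsIsotypic R M) [Nontrivial M] (hns : ¬ IsSimpleModule R M) :
    ∃ ψ : M →ₗ[R] M, (∀ x, ψ (ψ x) = 0) ∧ ψ ≠ 0 := by
  obtain ⟨W₁, hW₁⟩ := IsAtomic.exists_atom (Submodule R M)
  obtain ⟨E', hE'⟩ := exists_isCompl W₁
  have hne : E' ≠ ⊥ := by
    rintro rfl
    have h1 : W₁ = ⊤ := by have := hE'.sup_eq_top; rwa [sup_bot_eq] at this
    apply hns
    have h2 : IsSimpleModule R W₁ := isSimpleModule_iff_isAtom.2 hW₁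
    rw [h1] at h2
    exact IsSimpleModule.congr (Submodule.topEquiv (R := R) (M := M)).symm
  obtain ⟨W₂, hW₂, hle⟩ := (IsAtomic.eq_bot_or_exists_atom_le E').resolve_left hne
  have s1 : IsSimpleModule R W₁ := isSimpleModule_iff_isAtom.2 hW₁
  have s2 : IsSimpleModule R W₂ := isSimpleModule_iff_isAtom.2 hW₂
  obtain ⟨e⟩ := hiso W₁ W₂
  have hdis : Disjoint W₁ W₂ := hE'.disjoint.mono_right hle
  obtain ⟨C, hC, hCc⟩ := hdis.exists_isCompl
  have hπ : ∀ x ∈ W₁, Submodule.projectionOnto W₂ C hCc.symm x = 0 := by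
    intro x hx
    exact (Submodule.projectionOnto_apply_eq_zero_iff hCc.symm).2 (hC hx)
  refine ⟨W₁.subtype ∘ₗ e.toLinearMap ∘ₗ Submodule.projectionOnto W₂ C hCc.symm, ?_, ?_⟩
  · intro x
    change ((e (Submodule.projectionOnto W₂ C hCc.symm (e (Submodule.projectionOnto W₂ C hCc.symm x) : W₁)) : W₁) : M) = 0
    rw [hπ _ (e _).2, map_zero]
    rfl
  · intro h
    obtain ⟨x, hx, hx0⟩ := Submodule.exists_mem_ne_zero_of_ne_bot hW₂.1
    have h3 := LinearMap.congr_fun h x
    change ((e (Submodule.projectionOnto W₂ C hCc.symm x) : W₁) : M) = 0 at h3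
    rw [Submodule.projectionOnto_apply_of_mem_left hCc.symm hx] at h3
    have h4 : e ⟨x, hx⟩ = 0 := Subtype.ext h3
    have h5 := (LinearEquiv.map_eq_zero_iff e).1 h4
    exact hx0 (congrArg Subtype.val h5)

end Gen

/-! ### Counting by fibres -/

theorem dvd_ncard_of_fibers {α β : Type*} [Finite α] (X : Set α) (f : α → β) {p : ℕ}
    (h : ∀ b, p ∣ {x | x ∈ X ∧ f x = b}.ncard) : p ∣ X.ncard := by
  classical
  have : Fintype α := Fintype.ofFinite α
  rw [Set.ncard_eq_toFinset_card', Finset.card_eq_sum_card_image f]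
  refine Finset.dvd_sum fun b _ => ?_
  have h1 := h b
  have h2 : ({x | x ∈ X ∧ f x = b}).ncard = (Finset.filter (fun x => f x = b) X.toFinset).card := by
    rw [← Set.ncard_coe_finset]
    congr 1
    ext x
    simp
  rwa [h2] at h1

/-! ### Pure vectors -/

variable {E : Type u} [AddCommGroup E]

/-- The cyclic module generated by `v` is simple (or zero). -/
def Pure (R : Subring (AddMonoid.End E)) (v : E) : Prop := ∀ r ∈ R, r v ≠ 0 → ∃ s ∈ R, s (r v) = v

theorem pure_of_isSimple {R : Subring (AddMonoid.End E)} {v : E} (h : IsSimpleModule R (span R {v})) : Pure R v := by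
  intro r hr h0
  have h1 : IsAtom (span R {v}) := isSimpleModule_iff_isAtom.1 h
  have h2 : span R {r v} ≤ span R {v} := by
    rw [span_singleton_le_iff_mem]
    exact mem_span_singleton.2 ⟨⟨r, hr⟩, rfl⟩
  have h3 : span R {r v} ≠ ⊥ := by
    rw [Ne, span_singleton_eq_bot]
    exact h0
  have h4 : span R {r v} = span R {v} := (h1.le_iff_eq h3).1 h2
  have h5 : v ∈ span R {r v} := by rw [h4]; exact mem_span_singleton_self v
  obtain ⟨s, hs⟩ := mem_span_singleton.1 h5
  exact ⟨s, s.2, hs⟩

/-- The number of generators of a cyclic submodule with an impure generator is divisible by `p`. -/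
theorem dvd_of_not_pure [Finite E] {p : ℕ} (hp : p.Prime) (hpE : ∀ e : E, p • e = 0) (R : Subring (AddMonoid.End E))
    [IsSemisimpleModule R E] (hiso : IsIsotypic R E) {v : E} (hv : ¬ Pure R v) :
    p ∣ {w : E | span R {w} = span R {v}}.ncard := by
  have hv0 : v ≠ 0 := by
    rintro rfl
    exact hv fun r _ h => absurd (map_zero r) h
  have hnt : Nontrivial (span R {v}) := by
    rw [Submodule.nontrivial_iff_ne_bot, Ne, span_singleton_eq_bot]
    exact hv0
  have hns : ¬ IsSimpleModule R (span R {v}) := fun h => hv (pure_of_isSimple h)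
  have hi : IsIsotypic R (span R {v}) := hiso.of_injective (span R {v}).subtype (Submodule.subtype_injective _)
  obtain ⟨ψ, h2, h0⟩ := exists_nilp hi hns
  exact dvd_card_gen hp hpE _ ψ h2 h0

theorem cj_dl_apply {D : Type v} [Group D] [DistribMulAction D E] (d : D) (r : AddMonoid.End E) (e : E) :
    cj E d r (d • e) = d • r e := by
  change d • r (d⁻¹ • (d • e)) = _
  rw [inv_smul_smul]

/-- Generators of the same cyclic module have the same pureness, for all rings of a commuting family. -/
theorem pure_iff_of_span_eq {ι : Type*} {R : ι → Subring (AddMonoid.End E)}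
    (hcomm : ∀ i j, i ≠ j → ∀ a ∈ R i, ∀ b ∈ R j, a * b = b * a) {i : ι} {v w : E}
    (h : span (R i) {w} = span (R i) {v}) (j : ι) (hv : Pure (R j) v) : Pure (R j) w := by
  have h1 : w ∈ span (R i) {v} := by rw [← h]; exact mem_span_singleton_self w
  have h2 : v ∈ span (R i) {w} := by rw [h]; exact mem_span_singleton_self v
  obtain ⟨⟨a, ha⟩, haw⟩ := mem_span_singleton.1 h1
  obtain ⟨⟨b, hb⟩, hbv⟩ := mem_span_singleton.1 h2
  change a v = w at haw
  change b w = v at hbv
  intro r hr hrw
  by_cases hij : i = j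
  · subst hij
    have h3 : (r * a) v ≠ 0 := by
      change r (a v) ≠ 0
      rw [haw]
      exact hrw
    obtain ⟨s, hs, hsv⟩ := hv (r * a) ((R i).mul_mem hr ha) h3
    refine ⟨a * s, (R i).mul_mem ha hs, ?_⟩
    change a (s (r w)) = w
    have h4 : s (r (a v)) = v := hsv
    rw [haw] at h4
    rw [h4, haw]
  · have hc : ∀ t ∈ R j, ∀ x, t (a x) = a (t x) := fun t ht x =>
      (DFunLike.congr_fun (hcomm i j hij a ha t ht) x).symm
    have h3 : r v ≠ 0 := by
      intro h4
      apply hrw
      rw [← haw, hc r hr, h4, map_zero]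
    obtain ⟨s, hs, hsv⟩ := hv r hr h3
    refine ⟨s, hs, ?_⟩
    rw [← haw, hc r hr, hc s hs, hsv]

/-- **All vectors are pure**, for a commuting family of isotypic rings permuted by a group with two orbits. -/
theorem all_pure {D : Type v} [Group D] [DistribMulAction D E] [Finite D] [Finite E] [Nontrivial E]
    (h2 : TwoOrb D E) {p : ℕ} (hp : p.Prime) (hpE : ∀ e : E, p • e = 0) (hcop : ¬ p ∣ Nat.card D)
    {ι : Type*} (R : ι → Subring (AddMonoid.End E)) (hss : ∀ i, IsSemisimpleModule (R i) E)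
    (hiso : ∀ i, IsIsotypic (R i) E) (hcomm : ∀ i j, i ≠ j → ∀ a ∈ R i, ∀ b ∈ R j, a * b = b * a)
    (hperm : ∀ (d : D) (i : ι), ∃ j, ∀ r, cj E d r ∈ R j ↔ r ∈ R i) (i : ι) (v : E) : Pure (R i) v := by
  let f : E → Set ι := fun v => {i | ¬ Pure (R i) v}
  let S : Set E := {v | (f v).Nonempty}
  by_contra hcon
  have hne : S.Nonempty := ⟨v, i, hcon⟩
  have h0 : (0 : E) ∉ S := by
    rintro ⟨i, hi⟩
    exact hi fun r _ h => absurd (map_zero r) h
  have hS : ∀ (d : D), ∀ e ∈ S, d • e ∈ S := by
    rintro d e ⟨i, hi⟩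
    obtain ⟨j, hj⟩ := hperm d i
    refine ⟨j, fun hpure => hi ?_⟩
    intro r hr hre
    have h3 : cj E d r (d • e) ≠ 0 := by
      rw [cj_dl_apply]
      exact smul_ne hre
    obtain ⟨s, hs, hse⟩ := hpure (cj E d r) ((hj r).2 hr) h3
    refine ⟨cj E d⁻¹ s, ?_, ?_⟩
    · rw [← hj, ← cj_mul, mul_inv_cancel, cj_one]
      exact hs
    · rw [cj_dl_apply] at hse
      change d⁻¹ • s ((d⁻¹)⁻¹ • (r e)) = e
      rw [inv_inv, hse, inv_smul_smul]
  refine h2.not_dvd hp hpE hcop S hS h0 hne ?_
  refine dvd_ncard_of_fibers S f fun b => ?_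
  by_cases hb : b.Nonempty
  · obtain ⟨i, hi⟩ := hb
    refine dvd_ncard_of_fibers _ (fun v => span (R i) {v}) fun U => ?_
    by_cases hU : ∃ v, (v ∈ S ∧ f v = b) ∧ span (R i) {v} = U
    · obtain ⟨v₀, ⟨hv₀, hfv⟩, rfl⟩ := hU
      have hip : ¬ Pure (R i) v₀ := by
        have : i ∈ f v₀ := by rw [hfv]; exact hi
        exact this
      have h3 : {x | x ∈ {x | x ∈ S ∧ f x = b} ∧ span (R i) {x} = span (R i) {v₀}} =
          {w : E | span (R i) {w} = span (R i) {v₀}} := by
        ext w
        constructor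
        · exact fun h => h.2
        · intro hw
          have hw' : span (R i) {w} = span (R i) {v₀} := hw
          have h4 : f w = b := by
            rw [← hfv]
            ext j
            constructor
            · intro hj hp'
              exact hj (pure_iff_of_span_eq hcomm hw' j hp')
            · intro hj hp'
              exact hj (pure_iff_of_span_eq hcomm hw'.symm j hp')
          refine ⟨⟨?_, h4⟩, hw'⟩
          change (f w).Nonempty
          rw [h4]
          exact ⟨i, hi⟩
      rw [h3]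
      have := hss i
      exact dvd_of_not_pure hp hpE (R i) (hiso i) hip
    · have h3 : {x | x ∈ {x | x ∈ S ∧ f x = b} ∧ span (R i) {x} = U} = ∅ := by
        ext x
        constructor
        · exact fun h => hU ⟨x, h⟩
        · exact fun h => absurd h (Set.notMem_empty _)
      rw [h3, Set.ncard_empty]
      exact dvd_zero p
  · have h3 : {x | x ∈ S ∧ f x = b} = ∅ := by
      ext x
      constructor
      · rintro ⟨h4, rfl⟩
        exact hb h4
      · exact fun h => absurd h (Set.notMem_empty _)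
    rw [h3, Set.ncard_empty]
    exact dvd_zero p

/-- If all vectors are pure, then the ring is irreducible or has no zero divisors. -/
theorem irr_or_inj (R : Subring (AddMonoid.End E)) (hpure : ∀ v, Pure R v) :
    (∀ v : E, v ≠ 0 → ∀ w : E, ∃ r ∈ R, r v = w) ∨ (∀ r ∈ R, ∀ v : E, v ≠ 0 → r v = 0 → r = 0) := by
  rw [or_iff_not_imp_left]
  intro hnot
  push Not at hnot
  obtain ⟨u, hu, w₀, hw₀⟩ := hnot
  intro r hr v hv hrv
  -- `R v` is proper
  obtain ⟨w₁, hw₁⟩ : ∃ w, ∀ s ∈ R, s v ≠ w := by
    by_contra hcon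
    push Not at hcon
    obtain ⟨a, ha, hav⟩ := hcon u
    obtain ⟨b, hb, hbw⟩ := hcon w₀
    have h1 : a v ≠ 0 := by rw [hav]; exact hu
    obtain ⟨s, hs, hsv⟩ := hpure v a ha h1
    refine hw₀ (b * s) (R.mul_mem hb hs) ?_
    change b (s u) = w₀
    rw [← hav, hsv, hbw]
  have key : ∀ w, (∀ s ∈ R, s v ≠ w) → r w = 0 := by
    intro w hw
    by_contra hrw
    have h1 : r (v + w) = r w := by rw [map_add, hrv, zero_add]
    have h2 : r (v + w) ≠ 0 := by rw [h1]; exact hrw
    obtain ⟨s, hs, hsv⟩ := hpure (v + w) r hr h2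
    rw [h1] at hsv
    have h3 : (s * r - 1) w = v := by
      change s (r w) - w = v
      rw [hsv, add_sub_cancel_right]
    have hc : s * r - 1 ∈ R := R.sub_mem (R.mul_mem hs hr) R.one_mem
    obtain ⟨t, ht, htw⟩ := hpure w _ hc (by rw [h3]; exact hv)
    rw [h3] at htw
    exact hw t ht htw
  refine AddMonoidHom.ext fun x => ?_
  change r x = 0
  by_cases hx : ∀ s ∈ R, s v ≠ x
  · exact key x hx
  · push Not at hx
    obtain ⟨a, ha, hax⟩ := hx
    have h1 : ∀ s ∈ R, s v ≠ x + w₁ := by
      intro s hs h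
      refine hw₁ (s - a) (R.sub_mem hs ha) ?_
      change s v - a v = w₁
      rw [h, hax, add_sub_cancel_left]
    have h2 := key _ h1
    rw [map_add, key w₁ hw₁, add_zero] at h2
    exact h2

/-- **Schur**: elements commuting with an irreducible ring are injective or zero. -/
theorem schur {R : Subring (AddMonoid.End E)} (hirr : ∀ v : E, v ≠ 0 → ∀ w : E, ∃ r ∈ R, r v = w)
    {c : AddMonoid.End E} (hc : ∀ r ∈ R, r * c = c * r) {v : E} (hv : v ≠ 0) (hcv : c v = 0) : c = 0 := by
  refine AddMonoidHom.ext fun w => ?_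
  change c w = 0
  obtain ⟨r, hr, rfl⟩ := hirr v hv w
  have h1 : r (c v) = c (r v) := DFunLike.congr_fun (hc r hr) v
  rw [← h1, hcv, map_zero]

/-- **Wedderburn**: a finite ring of endomorphisms without zero divisors is a field. -/
theorem isField_of_inj [Finite E] [Nontrivial E] (R : Subring (AddMonoid.End E))
    (hinj : ∀ r ∈ R, ∀ v : E, v ≠ 0 → r v = 0 → r = 0) : IsField R := by
  have hfin : Finite (AddMonoid.End E) := finite_end
  obtain ⟨x₀, hx₀⟩ := exists_ne (0 : E)
  have : Nontrivial R := ⟨⟨0, 1, by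
    intro h
    have h2 : (0 : AddMonoid.End E) = 1 := congrArg Subtype.val h
    have h3 := DFunLike.congr_fun h2 x₀
    exact hx₀ h3.symm⟩⟩
  have : NoZeroDivisors R := ⟨by
    intro a b hab
    by_contra hne
    rw [not_or] at hne
    have hb : ∃ y : E, (b : AddMonoid.End E) y ≠ 0 := by
      by_contra hcon
      push Not at hcon
      exact hne.2 (Subtype.ext (AddMonoidHom.ext hcon))
    obtain ⟨y, hy⟩ := hb
    have h4 : (a : AddMonoid.End E) ((b : AddMonoid.End E) y) = 0 := by
      have := congrArg (fun r : R => (r : AddMonoid.End E) y) hab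
      exact this
    exact hne.1 (Subtype.ext (hinj a a.2 _ hy h4))⟩
  have : IsDomain R := NoZeroDivisors.to_isDomain R
  exact Finite.isDomain_to_isField R

end Cfsg.Agent.H698.Env
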