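import Mathlib
import Cfsg.Agent.H698.Orb
import Cfsg.Agent.H717.FieldOf

/-!
# Systems of imprimitivity from idempotents
-/

set_option autoImplicit false

namespace Cfsg.Agent.H698.Idem

open Cfsg.Agent.H717.FieldOf Cfsg.Agent.H698.Orb

universe u v

variable {D : Type v} {E : Type u} [Group D] [AddCommGroup E] [DistribMulAction D E]

/-- A decomposition into two parts permuted by the group. -/
def Imprim (D : Type v) (E : Type u) [Group D] [AddCommGroup E] [DistribMulAction D E] : Prop :=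
  ∃ E₁ E₂ : AddSubgroup E, IsCompl E₁ E₂ ∧ E₁ ≠ ⊥ ∧ E₂ ≠ ⊥ ∧
    ∀ d : D, ((∀ e ∈ E₁, d • e ∈ E₁) ∧ (∀ e ∈ E₂, d • e ∈ E₂)) ∨ ((∀ e ∈ E₁, d • e ∈ E₂) ∧ (∀ e ∈ E₂, d • e ∈ E₁))

/-- The range of an endomorphism. -/
def rg (e : AddMonoid.End E) : AddSubgroup E where
  carrier := {x | ∃ y : E, e y = x}
  zero_mem' := ⟨0, map_zero e⟩
  add_mem' := by
    rintro _ _ ⟨a, rfl⟩ ⟨b, rfl⟩
    exact ⟨a + b, map_add e a b⟩
  neg_mem' := by
    rintro _ ⟨a, rfl⟩
    exact ⟨-a, map_neg e a⟩

theorem mem_rg {e : AddMonoid.End E} {x : E} : x ∈ rg e ↔ ∃ y : E, e y = x := Iff.rfl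

theorem cj_apply' (d : D) (r : AddMonoid.End E) (v : E) : cj E d r v = d • r (d⁻¹ • v) := rfl

theorem cj_smul (d : D) (r : AddMonoid.End E) (v : E) : cj E d r (d • v) = d • r v := by
  rw [cj_apply', inv_smul_smul]

theorem cj_injective (d : D) : Function.Injective (cj E d) := by
  intro a b h
  have h1 := congrArg (cj E d⁻¹) h
  rwa [← cj_mul, ← cj_mul, inv_mul_cancel, cj_one, cj_one] at h1

theorem card_range_cj [Finite E] (d : D) (e : AddMonoid.End E) :
    Nat.card (rg (cj E d e)) = Nat.card (rg e) := by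
  have h1 : ∀ x ∈ rg (cj E d e), d⁻¹ • x ∈ rg e := by
    rintro _ ⟨y, rfl⟩
    exact ⟨d⁻¹ • y, by rw [cj_apply', inv_smul_smul]⟩
  have h2 : ∀ x ∈ rg e, d • x ∈ rg (cj E d e) := by
    rintro _ ⟨y, rfl⟩
    exact ⟨d • y, by rw [cj_smul]⟩
  exact Nat.card_congr
    { toFun := fun x => ⟨d⁻¹ • (x : E), h1 x x.2⟩
      invFun := fun x => ⟨d • (x : E), h2 x x.2⟩
      left_inv := fun x => Subtype.ext (smul_inv_smul d (x : E))
      right_inv := fun x => Subtype.ext (inv_smul_smul d (x : E)) }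

/-- **Idempotents in a commutative normalised set give a system of imprimitivity with two blocks.** -/
theorem imprim_of_idem [Finite D] [Finite E] (h2 : TwoOrb D E) {p : ℕ} (hp : p.Prime) (hpE : ∀ e : E, p • e = 0)
    (hcop : ¬ p ∣ Nat.card D) (B : Set (AddMonoid.End E)) (hBc : ∀ a ∈ B, ∀ b ∈ B, a * b = b * a)
    (hBm : ∀ a ∈ B, ∀ b ∈ B, a * b ∈ B) (hBd : ∀ (d : D), ∀ b ∈ B, cj E d b ∈ B) {e₀ : AddMonoid.End E}
    (he₀ : e₀ ∈ B) (hi₀ : e₀ * e₀ = e₀) (h0 : e₀ ≠ 0) (h1 : e₀ ≠ 1) : Imprim D E := by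
  classical
  have hfin : Finite (AddMonoid.End E) := finite_end
  -- a minimal idempotent
  let P : AddMonoid.End E → Prop := fun e => e ∈ B ∧ e * e = e ∧ e ≠ 0
  have hex : ∃ n : ℕ, ∃ e, P e ∧ Nat.card (rg e) = n := ⟨_, e₀, ⟨he₀, hi₀, h0⟩, rfl⟩
  obtain ⟨e, ⟨heB, hei, he0⟩, hen⟩ := Nat.find_spec hex
  have hmin : ∀ g, P g → Nat.card (rg e) ≤ Nat.card (rg g) := by
    intro g hg
    rw [hen]
    exact Nat.find_min' hex ⟨g, hg, rfl⟩
  have hrange1 : ∀ g : AddMonoid.End E, g * g = g → g ≠ 1 → Nat.card (rg g) < Nat.card E := by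
    intro g hg hg1
    rw [← AddSubgroup.card_top (G := E)]
    apply lt_of_le_of_ne (AddSubgroup.card_le_of_le le_top)
    intro h
    have h3 : rg g = ⊤ := AddSubgroup.eq_top_of_card_eq _ (by rw [h, AddSubgroup.card_top])
    apply hg1
    refine AddMonoidHom.ext fun v => ?_
    have h4 : v ∈ rg g := by rw [h3]; trivial
    obtain ⟨w, rfl⟩ := h4
    exact DFunLike.congr_fun hg w
  have he1 : e ≠ 1 := by
    rintro rfl
    have h3 := hmin e₀ ⟨he₀, hi₀, h0⟩
    have h4 := hrange1 e₀ hi₀ h1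
    have h5 : Nat.card (rg (1 : AddMonoid.End E)) = Nat.card E := by
      rw [show rg (1 : AddMonoid.End E) = ⊤ from by rw [eq_top_iff]; exact fun v _ => ⟨v, rfl⟩,
        AddSubgroup.card_top]
    omega
  -- conjugates
  let X : Set (AddMonoid.End E) := Set.range fun d : D => cj E d e
  have hXfin : X.Finite := Set.toFinite X
  have hXP : ∀ g ∈ X, g ∈ B ∧ g * g = g ∧ g ≠ 0 ∧ Nat.card (rg g) = Nat.card (rg e) := by
    rintro _ ⟨d, rfl⟩
    refine ⟨hBd d e heB, by rw [← map_mul, hei], fun h => he0 (cj_injective d (h.trans (map_zero (cj E d)).symm)), card_range_cj d e⟩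
  have hXd : ∀ (d : D), ∀ g ∈ X, cj E d g ∈ X := by
    rintro d _ ⟨c, rfl⟩
    exact ⟨d * c, cj_mul d c e⟩
  have horth : ∀ g ∈ X, ∀ k ∈ X, g ≠ k → g * k = 0 := by
    intro g hg k hk hne
    by_contra hcon
    obtain ⟨gB, gi, g0, gc⟩ := hXP g hg
    obtain ⟨kB, ki, k0, kc⟩ := hXP k hk
    have hc := hBc g gB k kB
    have hPgk : P (g * k) := by
      refine ⟨hBm g gB k kB, ?_, hcon⟩
      calc g * k * (g * k) = g * (k * g) * k := by simp only [mul_assoc]
        _ = g * (g * k) * k := by rw [← hc]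
        _ = (g * g) * (k * k) := by simp only [mul_assoc]
        _ = g * k := by rw [gi, ki]
    have h3 := hmin _ hPgk
    have hsub1 : rg (g * k) ≤ rg g := by
      rintro _ ⟨v, rfl⟩
      exact ⟨k v, rfl⟩
    have hsub2 : rg (g * k) ≤ rg k := by
      rw [hc]
      rintro _ ⟨v, rfl⟩
      exact ⟨g v, rfl⟩
    have e1 : rg (g * k) = rg g :=
      AddSubgroup.eq_of_le_of_card_ge hsub1 (by rw [gc]; exact h3)
    have e2 : rg (g * k) = rg k :=
      AddSubgroup.eq_of_le_of_card_ge hsub2 (by rw [kc]; exact h3)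
    have e3 : rg g = rg k := e1.symm.trans e2
    apply hne
    have e4 : g * k = k := by
      refine AddMonoidHom.ext fun v => ?_
      have h4 : k v ∈ rg g := by rw [e3]; exact ⟨v, rfl⟩
      obtain ⟨w, hw⟩ := h4
      change g (k v) = k v
      rw [← hw]
      exact DFunLike.congr_fun gi w
    have e5 : k * g = g := by
      refine AddMonoidHom.ext fun v => ?_
      have h4 : g v ∈ rg k := by rw [← e3]; exact ⟨v, rfl⟩
      obtain ⟨w, hw⟩ := h4
      change k (g v) = g v
      rw [← hw]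
      exact DFunLike.congr_fun ki w
    rw [← e5, ← hc, e4]
  have horth' : ∀ g ∈ X, ∀ k ∈ X, g ≠ k → ∀ v, g (k v) = 0 := fun g hg k hk hne v =>
    DFunLike.congr_fun (horth g hg k hk hne) v
  have hidem' : ∀ g ∈ X, ∀ v, g (g v) = g v := fun g hg v => DFunLike.congr_fun (hXP g hg).2.1 v
  -- vectors
  have hvec : ∀ g ∈ X, ∃ v : E, g v = v ∧ v ≠ 0 := by
    intro g hg
    obtain ⟨w, hw⟩ : ∃ w, g w ≠ 0 := by
      by_contra hcon
      push Not at hcon
      exact (hXP g hg).2.2.1 (AddMonoidHom.ext hcon)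
    exact ⟨g w, hidem' g hg w, hw⟩
  let f : E → ℕ := fun v => {g ∈ X | g v ≠ 0}.ncard
  have hf : ∀ (d : D) (v : E), f (d • v) = f v := by
    intro d v
    have h3 : {g ∈ X | g (d • v) ≠ 0} = (cj E d) '' {g ∈ X | g v ≠ 0} := by
      ext g
      constructor
      · rintro ⟨hg, hgv⟩
        refine ⟨cj E d⁻¹ g, ⟨hXd d⁻¹ g hg, ?_⟩, by rw [← cj_mul, mul_inv_cancel, cj_one]⟩
        rw [cj_apply', inv_inv]
        exact smul_ne hgv
      · rintro ⟨k, ⟨hk, hkv⟩, rfl⟩
        refine ⟨hXd d k hk, ?_⟩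
        rw [cj_smul]
        exact smul_ne hkv
    change Set.ncard _ = Set.ncard _
    rw [h3, Set.ncard_image_of_injective _ (cj_injective d)]
  have heX : e ∈ X := ⟨1, cj_one e⟩
  -- at most two conjugates
  have hX2 : ∀ g ∈ X, ∀ k ∈ X, g ≠ e → k ≠ e → g = k := by
    intro g hg k hk hge hke
    by_contra hgk
    obtain ⟨a, ha, ha0⟩ := hvec e heX
    obtain ⟨b, hb, hb0⟩ := hvec g hg
    obtain ⟨c, hc, hc0⟩ := hvec k hk
    have eb : e b = 0 := by rw [← hb]; exact horth' e heX g hg hge.symm b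
    have ec : e c = 0 := by rw [← hc]; exact horth' e heX k hk hke.symm c
    have ga : g a = 0 := by rw [← ha]; exact horth' g hg e heX hge a
    have gc : g c = 0 := by rw [← hc]; exact horth' g hg k hk hgk c
    have ka : k a = 0 := by rw [← ha]; exact horth' k hk e heX hke a
    have kb : k b = 0 := by rw [← hb]; exact horth' k hk g hg (Ne.symm hgk) b
    have hle : ∀ (l : AddMonoid.End E), l ∈ X → l ≠ e → l ≠ g → l ≠ k → l a = 0 ∧ l b = 0 ∧ l c = 0 := by
      intro l hl h3 h4 h5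
      refine ⟨?_, ?_, ?_⟩
      · rw [← ha]; exact horth' l hl e heX h3 a
      · rw [← hb]; exact horth' l hl g hg h4 b
      · rw [← hc]; exact horth' l hl k hk h5 c
    have s1 : {l ∈ X | l a ≠ 0} = {e} := by
      ext l
      rw [Set.mem_singleton_iff]
      constructor
      · rintro ⟨hl, hla⟩
        by_contra hne
        apply hla
        rw [← ha]
        exact horth' l hl e heX hne a
      · rintro rfl
        exact ⟨heX, by rwa [ha]⟩
    have s2 : {l ∈ X | l (a + b) ≠ 0} = {e, g} := by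
      ext l
      rw [Set.mem_insert_iff, Set.mem_singleton_iff]
      constructor
      · rintro ⟨hl, hla⟩
        by_contra hne
        rw [not_or] at hne
        apply hla
        rw [map_add, ← ha, ← hb, horth' l hl e heX hne.1, horth' l hl g hg hne.2, add_zero]
      · rintro (rfl | rfl)
        · exact ⟨heX, by rw [map_add, ha, eb, add_zero]; exact ha0⟩
        · exact ⟨hg, by rw [map_add, ga, hb, zero_add]; exact hb0⟩
    have s3 : {l ∈ X | l (a + b + c) ≠ 0} = {e, g, k} := by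
      ext l
      rw [Set.mem_insert_iff, Set.mem_insert_iff, Set.mem_singleton_iff]
      constructor
      · rintro ⟨hl, hla⟩
        by_contra hne
        rw [not_or, not_or] at hne
        apply hla
        rw [map_add, map_add, ← ha, ← hb, ← hc, horth' l hl e heX hne.1, horth' l hl g hg hne.2.1,
          horth' l hl k hk hne.2.2, add_zero, add_zero]
      · rintro (rfl | rfl | rfl)
        · exact ⟨heX, by rw [map_add, map_add, ha, eb, ec, add_zero, add_zero]; exact ha0⟩
        · exact ⟨hg, by rw [map_add, map_add, ga, hb, gc, zero_add, add_zero]; exact hb0⟩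
        · exact ⟨hk, by rw [map_add, map_add, ka, kb, hc, zero_add, zero_add]; exact hc0⟩
    have n1 : f a = 1 := by change Set.ncard _ = 1; rw [s1, Set.ncard_singleton]
    have n2 : f (a + b) = 2 := by
      change Set.ncard _ = 2
      rw [s2, Set.ncard_pair (Ne.symm hge)]
    have n3 : f (a + b + c) = 3 := by
      change Set.ncard _ = 3
      rw [s3, Set.ncard_insert_of_notMem, Set.ncard_pair hgk]
      rw [Set.mem_insert_iff, Set.mem_singleton_iff, not_or]
      exact ⟨Ne.symm hge, Ne.symm hke⟩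
    have hab : a + b ≠ 0 := by
      intro h
      have : f (a + b) = f 0 := by rw [h]
      have h5 : f 0 = 0 := by
        change Set.ncard _ = 0
        rw [Set.ncard_eq_zero]
        ext l
        simp
      omega
    have habc : a + b + c ≠ 0 := by
      intro h
      have : f (a + b + c) = f 0 := by rw [h]
      have h5 : f 0 = 0 := by
        change Set.ncard _ = 0
        rw [Set.ncard_eq_zero]
        ext l
        simp
      omega
    rcases h2.three f hf ha0 hab habc with h | h | h <;> omega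
  -- the range of `e` is not invariant
  obtain ⟨g, hg, hge⟩ : ∃ g ∈ X, g ≠ e := by
    by_contra hcon
    push Not at hcon
    have hinv : Inv (⊤ : Subgroup D) (rg e) := by
      rintro d - _ ⟨w, rfl⟩
      refine ⟨d • w, ?_⟩
      have h3 : cj E d e = e := hcon _ ⟨d, rfl⟩
      rw [← h3, cj_smul, h3]
    rcases h2.eq_bot_or_top hp hpE hcop _ hinv with h3 | h3
    · apply he0
      refine AddMonoidHom.ext fun v => ?_
      have h4 : e v ∈ rg e := ⟨v, rfl⟩
      rw [h3] at h4
      exact h4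
    · apply he1
      refine AddMonoidHom.ext fun v => ?_
      have h4 : v ∈ rg e := by rw [h3]; trivial
      obtain ⟨w, rfl⟩ := h4
      exact hidem' e heX w
  have hXeg : ∀ k ∈ X, k = e ∨ k = g := by
    intro k hk
    by_cases h3 : k = e
    · exact Or.inl h3
    · exact Or.inr (hX2 k hk g hg h3 hge)
  have hperm : ∀ d : D, (cj E d e = e ∧ cj E d g = g) ∨ (cj E d e = g ∧ cj E d g = e) := by
    intro d
    rcases hXeg _ (hXd d e heX) with h3 | h3 <;> rcases hXeg _ (hXd d g hg) with h4 | h4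
    · exfalso
      exact hge (cj_injective d (h4.trans h3.symm))
    · exact Or.inl ⟨h3, h4⟩
    · exact Or.inr ⟨h3, h4⟩
    · exfalso
      exact hge (cj_injective d (h4.trans h3.symm))
  have eg : ∀ v, e (g v) = 0 := horth' e heX g hg (Ne.symm hge)
  have ge : ∀ v, g (e v) = 0 := horth' g hg e heX hge
  refine ⟨rg e, rg g, ?_, ?_, ?_, ?_⟩
  · rw [isCompl_iff]
    constructor
    · rw [AddSubgroup.disjoint_def]
      rintro x ⟨a, rfl⟩ ⟨b, hb⟩
      rw [← hidem' e heX a, ← hb, eg]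
    · rw [codisjoint_iff]
      have hinv : Inv (⊤ : Subgroup D) (rg e ⊔ rg g) := by
        rintro d - w hw
        obtain ⟨_, ⟨a, rfl⟩, _, ⟨b, rfl⟩, rfl⟩ := AddSubgroup.mem_sup.1 hw
        rw [smul_add, ← cj_smul, ← cj_smul]
        rcases hperm d with ⟨h3, h4⟩ | ⟨h3, h4⟩
        · rw [h3, h4]
          exact AddSubgroup.mem_sup.2 ⟨_, ⟨_, rfl⟩, _, ⟨_, rfl⟩, rfl⟩
        · rw [h3, h4, add_comm]
          exact AddSubgroup.mem_sup.2 ⟨_, ⟨_, rfl⟩, _, ⟨_, rfl⟩, rfl⟩
      rcases h2.eq_bot_or_top hp hpE hcop _ hinv with h3 | h3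
      · exfalso
        obtain ⟨a, ha, ha0⟩ := hvec e heX
        have h4 : a ∈ rg e ⊔ rg g := AddSubgroup.mem_sup_left ⟨a, ha⟩
        rw [h3] at h4
        exact ha0 h4
      · exact h3
  · intro h
    obtain ⟨a, ha, ha0⟩ := hvec e heX
    have h4 : a ∈ rg e := ⟨a, ha⟩
    rw [h] at h4
    exact ha0 h4
  · intro h
    obtain ⟨a, ha, ha0⟩ := hvec g hg
    have h4 : a ∈ rg g := ⟨a, ha⟩
    rw [h] at h4
    exact ha0 h4
  · intro d
    rcases hperm d with ⟨h3, h4⟩ | ⟨h3, h4⟩
    · left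
      constructor
      · rintro _ ⟨w, rfl⟩
        rw [← cj_smul, h3]
        exact ⟨_, rfl⟩
      · rintro _ ⟨w, rfl⟩
        rw [← cj_smul, h4]
        exact ⟨_, rfl⟩
    · right
      constructor
      · rintro _ ⟨w, rfl⟩
        rw [← cj_smul, h3]
        exact ⟨_, rfl⟩
      · rintro _ ⟨w, rfl⟩
        rw [← cj_smul, h4]
        exact ⟨_, rfl⟩

end Cfsg.Agent.H698.Idem
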