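import Mathlib
import Cfsg.Agent.H698.Env
import Cfsg.Agent.H698.Idem

/-!
# The dichotomy for normal subgroups

For a normal subgroup `N` of a `p'`-group `D` with two orbits on nonzero elements: the action is imprimitive, or `N`
is irreducible, or `N` generates a field.
-/

set_option autoImplicit false

namespace Cfsg.Agent.H698.Dich

open Cfsg.Agent.H717.FieldOf Cfsg.Agent.H698.Orb Cfsg.Agent.H698.Idem Cfsg.Agent.H698.Env

universe u v

variable {D : Type v} {E : Type u} [Group D] [AddCommGroup E] [DistribMulAction D E]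

theorem KA_apply_mem {N : Subgroup D} {W : AddSubgroup E} (hW : Inv N W) {r : AddMonoid.End E}
    (hr : r ∈ KA E N) {w : E} (hw : w ∈ W) : r w ∈ W := by
  let S : Subring (AddMonoid.End E) :=
    { carrier := {r | ∀ w ∈ W, r w ∈ W}
      mul_mem' := fun {a b} ha hb w hw => ha _ (hb w hw)
      one_mem' := fun w hw => hw
      add_mem' := fun {a b} ha hb w hw => W.add_mem (ha w hw) (hb w hw)
      zero_mem' := fun w _ => W.zero_mem
      neg_mem' := fun {a} ha w hw => W.neg_mem (ha w hw) }
  have h : KA E N ≤ S := by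
    unfold KA
    rw [Subring.closure_le]
    rintro _ ⟨n, hn, rfl⟩ w hw
    exact hW n hn w hw
  exact h hr w hw

/-- Semisimplicity over the ring generated by a subgroup. -/
theorem semisimple [Finite D] {p : ℕ} (hp : p.Prime) (hpE : ∀ e : E, p • e = 0) (hcop : ¬ p ∣ Nat.card D)
    (N : Subgroup D) : IsSemisimpleModule (KA E N) E := by
  refine (isSemisimpleModule_iff _ _).2 ⟨fun W => ?_⟩
  have hW : Inv N W.toAddSubgroup := fun n hn w hw => W.smul_mem (⟨dl E n, dl_mem N hn⟩ : KA E N) hw
  obtain ⟨W', hW', hc⟩ := exists_compl hp hpE hcop N _ hW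
  let W'' : Submodule (KA E N) E :=
    { carrier := W'
      add_mem' := fun {a b} ha hb => W'.add_mem ha hb
      zero_mem' := W'.zero_mem
      smul_mem' := fun r w hw => KA_apply_mem hW' r.2 hw }
  refine ⟨W'', ?_, ?_⟩
  · rw [Submodule.disjoint_def]
    intro x hx hx'
    exact AddSubgroup.disjoint_def.1 hc.disjoint hx hx'
  · rw [codisjoint_iff, eq_top_iff]
    intro x _
    have hx : x ∈ W.toAddSubgroup ⊔ W' := by rw [hc.sup_eq_top]; trivial
    obtain ⟨y, hy, z, hz, rfl⟩ := AddSubgroup.mem_sup.1 hx
    exact Submodule.add_mem_sup (S := W) (T := W'') hy hz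

/-- **A normal subgroup with several isotypic components gives imprimitivity.** -/
theorem imprim_of_not_isotypic [Finite D] [Finite E] (h2 : TwoOrb D E) {p : ℕ} (hp : p.Prime)
    (hpE : ∀ e : E, p • e = 0) (hcop : ¬ p ∣ Nat.card D) (N : Subgroup D) [N.Normal]
    (hni : ¬ IsIsotypic (KA E N) E) : Imprim D E := by
  have hss := semisimple hp hpE hcop N
  obtain ⟨S, hS, hne⟩ : ∃ S : Submodule (KA E N) E, IsSimpleModule (KA E N) S ∧
      isotypicComponent (KA E N) E S ≠ ⊤ := by
    by_contra hcon
    push Not at hcon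
    exact hni fun S hS => IsIsotypicOfType.of_isotypicComponent_eq_top (hcon S hS)
  obtain ⟨c, hcdef⟩ : ∃ c, c = isotypicComponent (KA E N) E S := ⟨_, rfl⟩
  rw [← hcdef] at hne
  have hcm : c ∈ isotypicComponents (KA E N) E := ⟨S, hS, hcdef⟩
  have hcb : c ≠ ⊥ := (bot_lt_isotypicComponents hcm).ne'
  let c' : Submodule (KA E N) E := sSup (isotypicComponents (KA E N) E \ {c})
  have hcc : IsCompl c c' := by
    constructor
    · exact sSupIndep_isotypicComponents (KA E N) E hcm
    · rw [codisjoint_iff, eq_top_iff, ← sSup_isotypicComponents (KA E N) E]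
      refine sSup_le fun d hd => ?_
      by_cases h : d = c
      · rw [h]
        exact le_sup_left
      · exact le_sup_of_le_right (le_sSup ⟨hd, h⟩)
  have hfc : ∀ f : Module.End (KA E N) E, c ≤ c.comap f :=
    Submodule.IsFullyInvariant.of_mem_isotypicComponents hcm
  have hfc' : ∀ f : Module.End (KA E N) E, c' ≤ c'.comap f := by
    intro f
    refine sSup_le fun d hd => ?_
    exact (Submodule.IsFullyInvariant.of_mem_isotypicComponents hd.1 f).trans
      (Submodule.comap_mono (le_sSup hd))
  let e : AddMonoid.End E := (c.projection c' hcc).toAddMonoidHom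
  have he : ∀ x, e x = c.projection c' hcc x := fun _ => rfl
  let B : Set (AddMonoid.End E) :=
    {b | (∀ r ∈ KA E N, r * b = b * r) ∧ ∀ f, (∀ r ∈ KA E N, r * f = f * r) → f * b = b * f}
  refine imprim_of_idem h2 hp hpE hcop B ?_ ?_ ?_ (e₀ := e) ?_ ?_ ?_ ?_
  · intro a ha b hb
    exact hb.2 a ha.1
  · intro a ha b hb
    refine ⟨fun r hr => ?_, fun f hf => ?_⟩
    · rw [← mul_assoc, ha.1 r hr, mul_assoc, hb.1 r hr, mul_assoc]
    · rw [← mul_assoc, ha.2 f hf, mul_assoc, hb.2 f hf, mul_assoc]
  · intro d b hb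
    have hconj : ∀ x : AddMonoid.End E, x = cj E d (cj E d⁻¹ x) := fun x => by
      rw [← cj_mul, mul_inv_cancel, cj_one]
    have h1 : ∀ (d : D) (b : AddMonoid.End E), (∀ r ∈ KA E N, r * b = b * r) → ∀ r ∈ KA E N,
        r * cj E d b = cj E d b * r := by
      intro d b hb r hr
      have hconj : ∀ x : AddMonoid.End E, x = cj E d (cj E d⁻¹ x) := fun x => by
        rw [← cj_mul, mul_inv_cancel, cj_one]
      rw [hconj r, ← map_mul, hb _ (cj_mem N d⁻¹ hr), map_mul]
    refine ⟨h1 d b hb.1, fun f hf => ?_⟩
    rw [hconj f, ← map_mul, hb.2 _ (h1 d⁻¹ f hf), map_mul]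
  · refine ⟨fun r hr => ?_, fun f hf => ?_⟩
    · refine AddMonoidHom.ext fun x => ?_
      change r (e x) = e (r x)
      exact ((c.projection c' hcc).map_smul (⟨r, hr⟩ : KA E N) x).symm
    · let fl : Module.End (KA E N) E :=
        { toFun := f
          map_add' := map_add f
          map_smul' := fun r x => (DFunLike.congr_fun (hf r r.2) x).symm }
      have hfl : ∀ x, fl x = f x := fun _ => rfl
      refine AddMonoidHom.ext fun x => ?_
      change f (e x) = e (f x)
      have hx : x ∈ c ⊔ c' := by rw [hcc.sup_eq_top]; trivial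
      obtain ⟨y, hy, z, hz, rfl⟩ := Submodule.mem_sup.1 hx
      have h3 : f y ∈ c := hfc fl hy
      have h4 : f z ∈ c' := hfc' fl hz
      have k1 : e (y + z) = y := by
        rw [he, map_add, Submodule.projection_apply_of_mem_left hcc hy,
          Submodule.projection_apply_of_mem_right hcc hz, add_zero]
      have k2 : e (f (y + z)) = f y := by
        rw [he, map_add, map_add, Submodule.projection_apply_of_mem_left hcc h3,
          Submodule.projection_apply_of_mem_right hcc h4, add_zero]
      rw [k1, k2]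
  · refine AddMonoidHom.ext fun x => ?_
    change e (e x) = e x
    rw [he, he]
    exact Submodule.projection_apply_of_mem_left hcc (Submodule.projection_apply_mem hcc x)
  · intro h
    apply hcb
    rw [Submodule.eq_bot_iff]
    intro x hx
    have h3 : e x = x := by
      rw [he]
      exact Submodule.projection_apply_of_mem_left hcc hx
    rw [← h3, h]
    rfl
  · intro h
    apply hne
    rw [eq_top_iff]
    intro x _
    have h3 : e x ∈ c := by
      rw [he]
      exact Submodule.projection_apply_mem hcc x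
    rw [h] at h3
    exact h3

variable (E) in
/-- Irreducibility of a subgroup, in terms of the ring it generates. -/
def Irred (N : Subgroup D) : Prop := ∀ v : E, v ≠ 0 → ∀ w : E, ∃ r ∈ KA E N, r v = w

variable (E) in
/-- The subgroup generates a field. -/
def Scal (N : Subgroup D) : Prop := ∀ r ∈ KA E N, ∀ v : E, v ≠ 0 → r v = 0 → r = 0

/-- **Main dichotomy.** -/
theorem dich [Finite D] [Finite E] [Nontrivial E] (h2 : TwoOrb D E) {p : ℕ} (hp : p.Prime)
    (hpE : ∀ e : E, p • e = 0) (hcop : ¬ p ∣ Nat.card D) (N : Subgroup D) [N.Normal] :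
    Imprim D E ∨ Irred E N ∨ Scal E N := by
  by_cases hi : IsIsotypic (KA E N) E
  · right
    refine irr_or_inj (KA E N) fun v => ?_
    refine all_pure h2 hp hpE hcop (fun _ : Unit => KA E N) (fun _ => semisimple hp hpE hcop N) (fun _ => hi)
      (fun i j h => absurd (Subsingleton.elim i j) h) (fun d _ => ⟨(), fun r => ?_⟩) () v
    refine ⟨fun h => ?_, cj_mem N d⟩
    have := cj_mem N d⁻¹ h
    rwa [← cj_mul, inv_mul_cancel, cj_one] at this
  · exact Or.inl (imprim_of_not_isotypic h2 hp hpE hcop N hi)

/-- Elements commuting with an irreducible subgroup commute with each other. -/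
theorem centralizer_comm [Finite E] [Nontrivial E] [FaithfulSMul D E] {N : Subgroup D} (hirr : Irred E N)
    {a b : D} (ha : ∀ n ∈ N, n * a = a * n) (hb : ∀ n ∈ N, n * b = b * n) : a * b = b * a := by
  let C : Subring (AddMonoid.End E) := Subring.centralizer (KA E N : Set (AddMonoid.End E))
  have hinj : ∀ r ∈ C, ∀ v : E, v ≠ 0 → r v = 0 → r = 0 := by
    intro r hr v hv hrv
    rw [Subring.mem_centralizer_iff] at hr
    exact schur hirr hr hv hrv
  have hf := isField_of_inj C hinj
  have hmem : ∀ a : D, (∀ n ∈ N, n * a = a * n) → dl E a ∈ C := by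
    intro a ha
    have h1 : KA E N ≤ Subring.centralizer {dl E a} := by
      unfold KA
      rw [Subring.closure_le]
      rintro _ ⟨n, hn, rfl⟩
      rw [SetLike.mem_coe, Subring.mem_centralizer_iff]
      rintro _ rfl
      rw [← map_mul, ← map_mul, ha n hn]
    rw [Subring.mem_centralizer_iff]
    intro r hr
    have h3 := h1 hr
    rw [Subring.mem_centralizer_iff] at h3
    exact (h3 _ rfl).symm
  have h4 := hf.mul_comm ⟨dl E a, hmem a ha⟩ ⟨dl E b, hmem b hb⟩
  have h5 : dl E a * dl E b = dl E b * dl E a := congrArg Subtype.val h4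
  rw [← map_mul, ← map_mul] at h5
  apply FaithfulSMul.eq_of_smul_eq_smul (α := E)
  intro e
  exact DFunLike.congr_fun h5 e

/-- A subgroup generating a field is commutative. -/
theorem Scal.comm [Finite E] [Nontrivial E] [FaithfulSMul D E] {N : Subgroup D} (h : Scal E N) {a b : D}
    (ha : a ∈ N) (hb : b ∈ N) : a * b = b * a := by
  have hf := isField_of_inj (KA E N) h
  have h4 := hf.mul_comm ⟨dl E a, dl_mem N ha⟩ ⟨dl E b, dl_mem N hb⟩
  have h5 : dl E a * dl E b = dl E b * dl E a := congrArg Subtype.val h4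
  rw [← map_mul, ← map_mul] at h5
  apply FaithfulSMul.eq_of_smul_eq_smul (α := E)
  intro e
  exact DFunLike.congr_fun h5 e

/-- An irreducible commutative subgroup generates a field. -/
theorem Irred.scal {N : Subgroup D} (h : Irred E N) (hc : ∀ a ∈ N, ∀ b ∈ N, a * b = b * a) :
    Scal E N := by
  intro r hr v hv hrv
  exact schur h (fun s hs => KA_comm N hc hs hr) hv hrv

end Cfsg.Agent.H698.Dich
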