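import Mathlib
import Cfsg.Agent.H698.Dich
import Cfsg.Agent.Lib.FieldAutCard

/-!
# The field generated by a commutative normal subgroup
-/

set_option autoImplicit false
set_option linter.style.haveILetI false

namespace Cfsg.Agent.H698.Fld

open Cfsg.Agent.H717.FieldOf Cfsg.Agent.H698.Orb Cfsg.Agent.H698.Idem Cfsg.Agent.H698.Env Cfsg.Agent.H698.Dich

universe u v

variable {D : Type v} {E : Type u} [Group D] [AddCommGroup E] [DistribMulAction D E]

/-- The structure: `E` is a vector space over the finite field `K`, generated by the image of `A`; `D` acts semilinearly. -/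
structure FD (A : Subgroup D) (E : Type u) [AddCommGroup E] [DistribMulAction D E] (K : Type u) [Field K] [Module K E] where
  /-- the embedding -/
  φ : A →* Kˣ
  /-- the action on the field -/
  σ : D →* (K ≃+* K)
  hφ : ∀ (a : A) (e : E), ((φ a : Kˣ) : K) • e = (a : D) • e
  hσ : ∀ (d : D) (k : K) (e : E), d • (k • e) = (σ d k) • (d • e)
  hc : ∀ d : D, σ d = 1 ↔ d ∈ Subgroup.centralizer (A : Set D)
  hgen : ∀ (k : K) (V : AddSubgroup E), (∀ a ∈ A, ∀ v ∈ V, a • v ∈ V) → ∀ v ∈ V, k • v ∈ V

/-- **A commutative normal subgroup generating a field**. -/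
theorem exists_fd [Finite E] [Nontrivial E] [FaithfulSMul D E]
    (A : Subgroup D) [A.Normal] (hS : Scal E A) :
    ∃ (K : Type u) (_ : Field K) (_ : Finite K) (_ : Module K E), Nonempty (FD A E K) := by
  have hfin : Finite (AddMonoid.End E) := finite_end
  let R : Subring (AddMonoid.End E) := KA E A
  letI : Field R := (isField_of_inj R hS).toField
  letI : Module R E := inferInstance
  have hsm : ∀ (r : R) (e : E), r • e = (r : AddMonoid.End E) e := fun _ _ => rfl
  let φ₀ : A →* R :=
    { toFun := fun a => ⟨dl E (a : D), dl_mem A a.2⟩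
      map_one' := Subtype.ext (map_one (dl E))
      map_mul' := fun a b => Subtype.ext (map_mul (dl E) (a : D) (b : D)) }
  let cjR : D → (R ≃+* R) := fun d =>
    { toFun := fun r => ⟨cj E d r, cj_mem A d r.2⟩
      invFun := fun r => ⟨cj E d⁻¹ r, cj_mem A d⁻¹ r.2⟩
      left_inv := fun r => Subtype.ext (by
        change cj E d⁻¹ (cj E d (r : AddMonoid.End E)) = r
        rw [← cj_mul, inv_mul_cancel, cj_one])
      right_inv := fun r => Subtype.ext (by
        change cj E d (cj E d⁻¹ (r : AddMonoid.End E)) = r
        rw [← cj_mul, mul_inv_cancel, cj_one])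
      map_mul' := fun r s => Subtype.ext (map_mul (cj E d) (r : AddMonoid.End E) (s : AddMonoid.End E))
      map_add' := fun r s => Subtype.ext (map_add (cj E d) (r : AddMonoid.End E) (s : AddMonoid.End E)) }
  let σ : D →* (R ≃+* R) :=
    { toFun := cjR
      map_one' := RingEquiv.ext fun r => Subtype.ext (cj_one _)
      map_mul' := fun c d => RingEquiv.ext fun r => Subtype.ext (cj_mul c d _) }
  have hσ : ∀ (d : D) (r : R), ((σ d r : R) : AddMonoid.End E) = cj E d r := fun _ _ => rfl
  refine ⟨R, inferInstance, inferInstance, inferInstance, ⟨⟨φ₀.toHomUnits, σ, ?_, ?_, ?_, ?_⟩⟩⟩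
  · intro a e
    rfl
  · intro d k e
    change d • ((k : AddMonoid.End E) e) = d • ((k : AddMonoid.End E) (d⁻¹ • (d • e)))
    rw [inv_smul_smul]
  · intro d
    rw [Subgroup.mem_centralizer_iff]
    constructor
    · intro h a ha
      have h5 : cj E d (dl E a) = dl E a := by
        have := congrArg (fun f : R ≃+* R => ((f ⟨dl E a, dl_mem A ha⟩ : R) : AddMonoid.End E)) h
        exact this
      rw [cj_apply, ← map_mul, ← map_mul] at h5
      have h6 : d * a * d⁻¹ = a := by
        apply FaithfulSMul.eq_of_smul_eq_smul (α := E)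
        intro e
        exact DFunLike.congr_fun h5 e
      calc a * d = (d * a * d⁻¹) * d := by rw [h6]
        _ = d * a := by group
    · intro h
      have hle : KA E A ≤ (Subring.centralizer {dl E d}) := by
        unfold KA
        rw [Subring.closure_le]
        rintro _ ⟨a, ha, rfl⟩
        rw [SetLike.mem_coe, Subring.mem_centralizer_iff]
        rintro _ rfl
        rw [← map_mul, ← map_mul, h a ha]
      refine RingEquiv.ext fun r => Subtype.ext ?_
      have h7 := hle r.2
      rw [Subring.mem_centralizer_iff] at h7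
      have h8 := h7 _ rfl
      rw [hσ, cj_apply, h8, mul_assoc, ← map_mul, mul_inv_cancel, map_one, mul_one]
      rfl
  · intro k V hV v hv
    exact KA_apply_mem hV k.2 hv

variable {A : Subgroup D} {K : Type u} [Field K] [Finite K] [Module K E]

omit [Finite K] in
theorem charP [Nontrivial E] {p : ℕ} (hp : p.Prime) (hpE : ∀ e : E, p • e = 0) : CharP K p := by
  obtain ⟨x, hx⟩ := exists_ne (0 : E)
  have h1 : (p : K) = 0 := by
    by_contra h
    apply hx
    have h2 : (p : K) • x = 0 := by
      rw [Nat.cast_smul_eq_nsmul]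
      exact hpE x
    rcases smul_eq_zero.1 h2 with h3 | h3
    · exact absurd h3 h
    · exact h3
  obtain ⟨q, hq⟩ := CharP.exists K
  have h2 : q ∣ p := (CharP.cast_eq_zero_iff K q p).1 h1
  rcases (Nat.dvd_prime hp).1 h2 with h3 | h3
  · exact absurd h3 (CharP.char_ne_one K q)
  · rwa [h3] at hq

omit [Finite K] in
theorem FD.injective [FaithfulSMul D E] (f : FD A E K) : Function.Injective f.φ := by
  intro a b h
  apply Subtype.ext
  apply FaithfulSMul.eq_of_smul_eq_smul (α := E)
  intro e
  rw [← f.hφ, ← f.hφ, h]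

theorem FD.isCyclic [FaithfulSMul D E] (f : FD A E K) : IsCyclic A := by
  have : Finite A := Finite.of_injective f.φ f.injective
  exact isCyclic_of_injective_ringHom ((Units.coeHom K).comp f.φ) (Units.val_injective.comp f.injective)

omit [Finite K] in
theorem FD.card_dvd [FaithfulSMul D E] (f : FD A E K) : Nat.card A ∣ Nat.card K - 1 := by
  have h1 := Subgroup.card_dvd_of_injective f.φ f.injective
  rwa [Nat.card_units] at h1

/-- The numbers. -/
theorem FD.numbers [Nontrivial E] {p : ℕ} (hp : p.Prime) (hpE : ∀ e : E, p • e = 0) (f : FD A E K) :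
    ∃ a : ℕ, 1 ≤ a ∧ Nat.card K = p ^ a ∧ (Subgroup.centralizer (A : Set D)).index ≤ a := by
  have : Fact p.Prime := ⟨hp⟩
  have hch := charP (K := K) hp hpE
  have : Fintype K := Fintype.ofFinite K
  obtain ⟨n, -, hn⟩ := FiniteField.card K p
  refine ⟨n, n.2, by rw [Nat.card_eq_fintype_card, hn], ?_⟩
  have h1 := Cfsg.Agent.Lib.FieldAutCard.card_ringAut (F := K) (p := p) (f := n) n.2 hn
  have hfin : Finite (K ≃+* K) := Finite.of_injective (fun g : K ≃+* K => (g : K → K)) DFunLike.coe_injective
  have h2 : Subgroup.centralizer (A : Set D) = f.σ.ker := by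
    ext d
    rw [MonoidHom.mem_ker, f.hc]
  rw [h2, Subgroup.index_ker, ← h1]
  exact Subgroup.card_le_card_group _

omit [Finite K] in
/-- The centralizer acts linearly. -/
theorem FD.commute (f : FD A E K) {d : D} (hd : d ∈ Subgroup.centralizer (A : Set D)) (k : K) (e : E) :
    d • (k • e) = k • (d • e) := by
  rw [f.hσ, (f.hc d).2 hd]
  rfl

end Cfsg.Agent.H698.Fld
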