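import Mathlib
import Cfsg.Agent.H698.Dich
import Cfsg.Agent.SignalizersComponents.Components

/-!
# Components of primitive groups with two orbits

A `p'`-group with two orbits on nonzero elements which is not imprimitive has at most one component, and the
component is irreducible.
-/

set_option autoImplicit false

namespace Cfsg.Agent.H698.Lay

open Cfsg Cfsg.Agent.H717.FieldOf Cfsg.Agent.H698.Orb Cfsg.Agent.H698.Idem Cfsg.Agent.H698.Env Cfsg.Agent.H698.Dich
open Cfsg.Agent.SignalizersComponents.Components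

universe u v

variable {D : Type v} {E : Type u} [Group D] [AddCommGroup E] [DistribMulAction D E]

theorem exists_not_comm {K : Subgroup D} (hK : IsComponent K) : ∃ a ∈ K, ∃ b ∈ K, a * b ≠ b * a := by
  by_contra hcon
  push Not at hcon
  exact quasisimple_not_isMulCommutative hK.2
    ⟨⟨fun a b => Subtype.ext (hcon a a.2 b b.2)⟩⟩

theorem comm_of_ne {K L : Subgroup D} (hK : IsComponent K) (hL : IsComponent L) (hne : K ≠ L) {k l : D} (hk : k ∈ K)
    (hl : l ∈ L) : k * l = l * k := by
  have h := component_le_centralizer_of_ne hK hL hne hk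
  rw [Subgroup.mem_centralizer_iff] at h
  exact (h l hl).symm

/-- The rings generated by commuting subgroups commute. -/
theorem KA_comm_of_comm {K L : Subgroup D} (h : ∀ k ∈ K, ∀ l ∈ L, k * l = l * k) {a b : AddMonoid.End E}
    (ha : a ∈ KA E K) (hb : b ∈ KA E L) : a * b = b * a := by
  have h1 : KA E K ≤ Subring.centralizer (KA E L : Set (AddMonoid.End E)) := by
    conv_lhs => unfold KA
    rw [Subring.closure_le]
    rintro _ ⟨k, hk, rfl⟩
    rw [SetLike.mem_coe, Subring.mem_centralizer_iff]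
    intro x hx
    have h2 : KA E L ≤ Subring.centralizer {dl E k} := by
      unfold KA
      rw [Subring.closure_le]
      rintro _ ⟨l, hl, rfl⟩
      rw [SetLike.mem_coe, Subring.mem_centralizer_iff]
      rintro _ rfl
      rw [← map_mul, ← map_mul, h k hk l hl]
    have h3 := h2 hx
    rw [Subring.mem_centralizer_iff] at h3
    exact (h3 _ rfl).symm
  have h4 := h1 ha
  rw [Subring.mem_centralizer_iff] at h4
  exact (h4 b hb).symm

theorem cj_mem_map (K : Subgroup D) (d : D) {r : AddMonoid.End E} (hr : r ∈ KA E K) :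
    cj E d r ∈ KA E (K.map (MulAut.conj d).toMonoidHom) := by
  have h : KA E K ≤ (KA E (K.map (MulAut.conj d).toMonoidHom)).comap (cj E d) := by
    conv_lhs => unfold KA
    rw [Subring.closure_le]
    rintro _ ⟨a, ha, rfl⟩
    change cj E d (dl E a) ∈ KA E (K.map (MulAut.conj d).toMonoidHom)
    rw [cj_apply, ← map_mul, ← map_mul]
    exact dl_mem _ ⟨a, ha, rfl⟩
  exact h hr

/-- The stabilizer of a subgroup of the module. -/
def stab (D : Type v) [Group D] [DistribMulAction D E] (c : AddSubgroup E) : Subgroup D where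
  carrier := {d | (∀ x ∈ c, d • x ∈ c) ∧ ∀ x ∈ c, d⁻¹ • x ∈ c}
  one_mem' := ⟨fun x hx => by rwa [one_smul], fun x hx => by rwa [inv_one, one_smul]⟩
  mul_mem' := fun {a b} ha hb => ⟨fun x hx => by rw [mul_smul]; exact ha.1 _ (hb.1 x hx),
    fun x hx => by rw [mul_inv_rev, mul_smul]; exact hb.2 _ (ha.2 x hx)⟩
  inv_mem' := fun {a} ha => ⟨ha.2, fun x hx => by rw [inv_inv]; exact ha.1 x hx⟩

variable [Finite D] [Finite E] [Nontrivial E] [FaithfulSMul D E]

theorem layer_irred (h2 : TwoOrb D E) {p : ℕ} (hp : p.Prime) (hpE : ∀ e : E, p • e = 0)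
    (hcop : ¬ p ∣ Nat.card D) (hni : ¬ Imprim D E) {K : Subgroup D} (hK : IsComponent K) : Irred E (layer D) := by
  have : (layer D).Normal := layer_normal D
  rcases dich h2 hp hpE hcop (layer D) with h | h | h
  · exact absurd h hni
  · exact h
  · exfalso
    obtain ⟨a, ha, b, hb, hab⟩ := exists_not_comm hK
    exact hab (h.comm (component_le_layer hK ha) (component_le_layer hK hb))

/-- The module is isotypic for each component. -/
theorem isotypic (h2 : TwoOrb D E) {p : ℕ} (hp : p.Prime) (hpE : ∀ e : E, p • e = 0)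
    (hcop : ¬ p ∣ Nat.card D) (hni : ¬ Imprim D E) {K : Subgroup D} (hK : IsComponent K) :
    IsIsotypic (KA E K) E := by
  have hL := layer_irred h2 hp hpE hcop hni hK
  have hss := semisimple hp hpE hcop K
  intro S hS
  refine IsIsotypicOfType.of_isotypicComponent_eq_top ?_
  obtain ⟨c, hcdef⟩ : ∃ c, c = isotypicComponent (KA E K) E S := ⟨_, rfl⟩
  rw [← hcdef]
  have hcm : c ∈ isotypicComponents (KA E K) E := ⟨S, hS, hcdef⟩
  have hcb : c ≠ ⊥ := (bot_lt_isotypicComponents hcm).ne'
  have hfc : ∀ f : Module.End (KA E K) E, c ≤ c.comap f :=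
    Submodule.IsFullyInvariant.of_mem_isotypicComponents hcm
  have hle : layer D ≤ stab D c.toAddSubgroup := by
    rw [layer_le_iff]
    intro K' hK' k hk
    have key : ∀ k ∈ K', ∀ x ∈ c, k • x ∈ c := by
      intro k hk x hx
      by_cases hne : K' = K
      · subst hne
        exact c.smul_mem (⟨dl E k, dl_mem K' hk⟩ : KA E K') hx
      · let fl : Module.End (KA E K) E :=
          { toFun := dl E k
            map_add' := map_add (dl E k)
            map_smul' := fun r x => by
              have h3 : ∀ l ∈ K, ∀ k ∈ K', l * k = k * l := fun l hl k hk => (comm_of_ne hK' hK hne hk hl).symm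
              exact (DFunLike.congr_fun (KA_comm_of_comm h3 r.2 (dl_mem K' hk)) x).symm }
        exact hfc fl hx
    exact ⟨key k hk, key k⁻¹ (K'.inv_mem hk)⟩
  rw [eq_top_iff]
  intro w _
  obtain ⟨v, hv, hv0⟩ := Submodule.exists_mem_ne_zero_of_ne_bot hcb
  obtain ⟨r, hr, rfl⟩ := hL v hv0 w
  have hinv : Inv (layer D) c.toAddSubgroup := fun n hn w hw => (hle hn).1 w hw
  exact KA_apply_mem hinv hr hv

/-- **Each component is irreducible.** -/
theorem comp_irred (h2 : TwoOrb D E) {p : ℕ} (hp : p.Prime) (hpE : ∀ e : E, p • e = 0)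
    (hcop : ¬ p ∣ Nat.card D) (hni : ¬ Imprim D E) {K : Subgroup D} (hK : IsComponent K) : Irred E K := by
  have h3 := all_pure h2 hp hpE hcop (ι := {K : Subgroup D // IsComponent K}) (fun K => KA E (K : Subgroup D))
    (fun K => semisimple hp hpE hcop K) (fun K => isotypic h2 hp hpE hcop hni K.2)
    (fun K L hKL a ha b hb => KA_comm_of_comm
      (fun k hk l hl => comm_of_ne K.2 L.2 (fun h => hKL (Subtype.ext h)) hk hl) ha hb)
    (fun d K => ⟨⟨(K : Subgroup D).map (MulAut.conj d).toMonoidHom, isComponent_conj d K.2⟩, fun r => by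
      refine ⟨fun h => ?_, cj_mem_map (K : Subgroup D) d⟩
      have h4 := cj_mem_map _ d⁻¹ h
      rw [← cj_mul, inv_mul_cancel, cj_one, Subgroup.map_map] at h4
      convert h4 using 1
      congr 1
      ext x
      constructor
      · intro hx
        refine ⟨x, hx, ?_⟩
        change d⁻¹ * (d * x * d⁻¹) * d⁻¹⁻¹ = x
        group
      · rintro ⟨y, hy, rfl⟩
        change d⁻¹ * (d * y * d⁻¹) * d⁻¹⁻¹ ∈ (K : Subgroup D)
        rw [show d⁻¹ * (d * y * d⁻¹) * d⁻¹⁻¹ = y by group]
        exact hy⟩) ⟨K, hK⟩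
  rcases irr_or_inj (KA E K) h3 with h | h
  · exact h
  · exfalso
    obtain ⟨a, ha, b, hb, hab⟩ := exists_not_comm hK
    exact hab (Scal.comm h ha hb)

/-- **Uniqueness of the component.** -/
theorem comp_unique (h2 : TwoOrb D E) {p : ℕ} (hp : p.Prime) (hpE : ∀ e : E, p • e = 0)
    (hcop : ¬ p ∣ Nat.card D) (hni : ¬ Imprim D E) {K K' : Subgroup D} (hK : IsComponent K) (hK' : IsComponent K') :
    K' = K := by
  by_contra hne
  obtain ⟨a, ha, b, hb, hab⟩ := exists_not_comm hK'
  exact hab (centralizer_comm (comp_irred h2 hp hpE hcop hni hK)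
    (fun n hn => (comm_of_ne hK' hK hne ha hn).symm) (fun n hn => (comm_of_ne hK' hK hne hb hn).symm))

theorem comp_normal (h2 : TwoOrb D E) {p : ℕ} (hp : p.Prime) (hpE : ∀ e : E, p • e = 0)
    (hcop : ¬ p ∣ Nat.card D) (hni : ¬ Imprim D E) {K : Subgroup D} (hK : IsComponent K) : K.Normal := by
  refine ⟨fun n hn g => ?_⟩
  have h1 := comp_unique h2 hp hpE hcop hni hK (isComponent_conj g hK)
  rw [← h1]
  exact ⟨n, hn, rfl⟩

end Cfsg.Agent.H698.Lay
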