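import Mathlib
import Cfsg.Agent.H698.Lay
import Cfsg.Agent.H698.Fld
import Cfsg.Agent.H698.Count
import Cfsg.Agent.H698.Fine
import Cfsg.Agent.StdRank2.OutAct
import Cfsg.Agent.H717.Dickson

/-!
# The case of a component
-/

set_option autoImplicit false

namespace Cfsg.Agent.H698.CaseS

open Cfsg Cfsg.Agent.H717.FieldOf Cfsg.Agent.H698.Orb Cfsg.Agent.H698.Idem Cfsg.Agent.H698.Env Cfsg.Agent.H698.Dich
open Cfsg.Agent.H698.Lay Cfsg.Agent.H698.Fld
open Cfsg.Agent.SignalizersComponents.Components
open scoped commutatorElement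

universe u v

section Aut

variable {L : Type*} [Group L]

/-- An automorphism of a perfect group which is trivial modulo the centre is trivial. -/
theorem eq_one_of_quot_eq_one (hL : Group.IsPerfect L) {φ : MulAut L}
    (h : StdRank2.OutAct.quot L φ = 1) : φ = 1 := by
  have h1 : ∀ x : L, x⁻¹ * φ x ∈ Subgroup.center L := by
    intro x
    have h2 : StdRank2.OutAct.quot L φ (QuotientGroup.mk x) = QuotientGroup.mk x := by rw [h]; rfl
    exact QuotientGroup.eq.1 h2.symm
  let f : L →* Subgroup.center L :=
    { toFun := fun x => ⟨x⁻¹ * φ x, h1 x⟩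
      map_one' := by
        apply Subtype.ext
        simp
      map_mul' := fun x y => by
        apply Subtype.ext
        change (x * y)⁻¹ * φ (x * y) = (x⁻¹ * φ x) * (y⁻¹ * φ y)
        have h3 := Subgroup.mem_center_iff.1 (h1 x) y⁻¹
        rw [map_mul, mul_inv_rev]
        calc y⁻¹ * x⁻¹ * (φ x * φ y) = (y⁻¹ * (x⁻¹ * φ x)) * φ y := by group
          _ = (x⁻¹ * φ x) * y⁻¹ * φ y := by rw [h3]
          _ = (x⁻¹ * φ x) * (y⁻¹ * φ y) := by group }
  apply MulEquiv.ext
  intro x
  have h4 : f x = 1 := by
    have h41 : commutator L ≤ f.ker := by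
      rw [commutator_def, Subgroup.commutator_le]
      intro a _ b _
      rw [MonoidHom.mem_ker, map_commutatorElement, commutatorElement_eq_one_iff_mul_comm]
      apply Subtype.ext
      exact Subgroup.mem_center_iff.1 (f b).2 _
    rw [hL.commutator_eq_top] at h41
    exact h41 (Subgroup.mem_top x)
  have h5 : x⁻¹ * φ x = 1 := congrArg Subtype.val h4
  change φ x = x
  rw [inv_mul_eq_one] at h5
  exact h5.symm

end Aut

section

variable {D : Type u} [Group D] (K : Subgroup D) [K.Normal]

/-- The action on the simple quotient. -/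
def psi : D →* MulAut (K ⧸ Subgroup.center K) := (StdRank2.OutAct.quot K).comp (MulAut.conjNormal (H := K))

theorem psi_ker (hK : Group.IsPerfect K) : (psi K).ker = Subgroup.centralizer (K : Set D) := by
  ext d
  rw [MonoidHom.mem_ker, Subgroup.mem_centralizer_iff]
  constructor
  · intro h k hk
    have h1 : MulAut.conjNormal (H := K) d = 1 := eq_one_of_quot_eq_one hK h
    have h2 : ((MulAut.conjNormal (H := K) d ⟨k, hk⟩ : K) : D) = k := by rw [h1]; rfl
    rw [MulAut.conjNormal_apply] at h2
    calc k * d = (d * k * d⁻¹) * d := by rw [h2]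
      _ = d * k := by group
  · intro h
    have h1 : MulAut.conjNormal (H := K) d = 1 := by
      apply MulEquiv.ext
      intro k
      apply Subtype.ext
      rw [MulAut.conjNormal_apply, ← h k k.2]
      change (k : D) * d * d⁻¹ = k
      group
    change StdRank2.OutAct.quot K (MulAut.conjNormal (H := K) d) = 1
    rw [h1, map_one]

theorem conj_range_le : (MulAut.conj : (K ⧸ Subgroup.center K) →* MulAut (K ⧸ Subgroup.center K)).range ≤ (psi K).range := by
  rintro _ ⟨t, rfl⟩
  obtain ⟨k, rfl⟩ := QuotientGroup.mk_surjective t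
  refine ⟨(k : D), ?_⟩
  apply MulEquiv.ext
  intro x
  induction x using QuotientGroup.induction_on with
  | H x =>
    change ((MulAut.conjNormal (H := K) (k : D) x : K) : K ⧸ Subgroup.center K) = _
    have h1 : MulAut.conjNormal (H := K) (k : D) x = k * x * k⁻¹ := by
      apply Subtype.ext
      rw [MulAut.conjNormal_apply]
      rfl
    rw [h1]
    rfl

end

/-- The representation of a subgroup centralizing `A`. -/
noncomputable def lin {D : Type u} {E : Type u} [Group D] [AddCommGroup E] [DistribMulAction D E]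
    {A : Subgroup D} {F : Type u} [Field F] [Module F E] (f : FD A E F) (P : Subgroup D)
    (hP : P ≤ Subgroup.centralizer (A : Set D)) : P →* (E →ₗ[F] E) where
  toFun g :=
    { toFun := fun e => (g : D) • e
      map_add' := fun a b => smul_add _ a b
      map_smul' := fun k e => f.commute (hP g.2) k e }
  map_one' := by
    refine LinearMap.ext fun v => ?_
    exact one_smul D v
  map_mul' := fun g g' => by
    refine LinearMap.ext fun v => ?_
    exact mul_smul (g : D) (g' : D) v

/-- The matrix representation. -/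
noncomputable def mat {D : Type u} {E : Type u} [Group D] [AddCommGroup E] [DistribMulAction D E]
    {A : Subgroup D} {F : Type u} [Field F] [Module F E] [Module.Finite F E] (f : FD A E F) (P : Subgroup D)
    (hP : P ≤ Subgroup.centralizer (A : Set D)) {m : ℕ} (hm : Module.finrank F E = m) :
    P →* Matrix.GeneralLinearGroup (Fin m) F :=
  ((LinearMap.toMatrixAlgEquiv (Module.finBasisOfFinrankEq F E hm)).toMonoidHom.comp (lin f P hP)).toHomUnits

theorem mat_injective {D : Type u} {E : Type u} [Group D] [AddCommGroup E] [DistribMulAction D E] [FaithfulSMul D E]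
    {A : Subgroup D} {F : Type u} [Field F] [Module F E] [Module.Finite F E] (f : FD A E F) (P : Subgroup D)
    (hP : P ≤ Subgroup.centralizer (A : Set D)) {m : ℕ} (hm : Module.finrank F E = m) :
    Function.Injective (mat f P hP hm) := by
  intro a b h
  have h1 := congrArg (fun x : Matrix.GeneralLinearGroup (Fin m) F => (x : Matrix (Fin m) (Fin m) F)) h
  have h2 : lin f P hP a = lin f P hP b :=
    (LinearMap.toMatrixAlgEquiv (Module.finBasisOfFinrankEq F E hm)).injective h1
  apply Subtype.ext
  apply FaithfulSMul.eq_of_smul_eq_smul (α := E)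
  intro e
  exact LinearMap.congr_fun h2 e

theorem not_comm_quot {K : Type u} [Group K] (hK : IsQuasisimple K) : ¬ IsMulCommutative (K ⧸ Subgroup.center K) := by
  intro h
  have hc := h.is_comm.comm
  apply quasisimple_center_ne_top hK
  rw [eq_top_iff, ← hK.1.commutator_eq_top, commutator_def, Subgroup.commutator_le]
  intro x _ y _
  rw [← QuotientGroup.eq_one_iff]
  have h1 : (QuotientGroup.mk' (Subgroup.center K)) ⁅x, y⁆ = 1 := by
    rw [map_commutatorElement, commutatorElement_eq_one_iff_mul_comm]
    exact hc _ _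
  exact h1

theorem arith1 {a q : ℕ} (hq : 1 ≤ q) : a * (q - 1) + 1 ≤ q ^ a := by
  obtain ⟨r, rfl⟩ : ∃ r, q = r + 1 := ⟨q - 1, by omega⟩
  rw [Nat.add_sub_cancel]
  induction a with
  | zero => simp
  | succ a ih =>
    have h1 : (r + 1) ^ (a + 1) = (r + 1) ^ a * r + (r + 1) ^ a := by ring
    have h2 : 1 ≤ (r + 1) ^ a := Nat.one_le_pow _ _ (by omega)
    have h3 : r ≤ (r + 1) ^ a * r := by nlinarith
    calc (a + 1) * r + 1 = (a * r + 1) + r := by ring
      _ ≤ (r + 1) ^ a + (r + 1) ^ a * r := by omega
      _ = _ := by rw [h1]; ring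

theorem arith2 {a : ℕ} (ha : 2 ≤ a) : 60 * a ^ 2 < 11 ^ (a + 1) := by
  obtain ⟨k, rfl⟩ : ∃ k, a = k + 2 := ⟨a - 2, by omega⟩
  induction k with
  | zero => norm_num
  | succ k ih =>
    have h1 := ih (by omega)
    have h2 : 11 ^ (k + 1 + 2 + 1) = 11 * 11 ^ (k + 2 + 1) := by ring
    rw [h2]
    nlinarith

theorem comm_gl_one {F : Type*} [Field F] (x y : Matrix.GeneralLinearGroup (Fin 1) F) : x * y = y * x := by
  apply Units.ext
  ext i j
  rw [Units.val_mul, Units.val_mul, Matrix.mul_apply, Matrix.mul_apply, Fin.sum_univ_one, Fin.sum_univ_one]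
  have hi : i = 0 := Subsingleton.elim _ _
  have hj : j = 0 := Subsingleton.elim _ _
  rw [hi, hj, mul_comm]

/-- **The case of a component.** -/
theorem main {D E : Type u} [Group D] [Finite D] [AddCommGroup E] [Finite E] [Nontrivial E] [DistribMulAction D E]
    [FaithfulSMul D E]
    (hF : ∀ (T : Type u) [Group T] [Finite T] [IsSimpleGroup T], ¬ IsMulCommutative T → Fine.{u, u} T)
    (h2 : TwoOrb D E) {p n : ℕ} (hp : p.Prime) (hp11 : 11 ≤ p) (hpE : ∀ e : E, p • e = 0) (hcop : ¬ p ∣ Nat.card D)
    (hn : 4 ≤ n) (hE : Nat.card E = p ^ n) (hni : ¬ Imprim D E) {K : Subgroup D} (hK : IsComponent K) :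
    p ≤ 2 * Nat.card (ConjClasses D) := by
  have hpf : Fact p.Prime := ⟨hp⟩
  have hKn : K.Normal := comp_normal h2 hp hpE hcop hni hK
  have hirr := comp_irred h2 hp hpE hcop hni hK
  obtain ⟨A, hAdef⟩ : ∃ A : Subgroup D, A = Subgroup.centralizer (K : Set D) := ⟨_, rfl⟩
  have hAn : A.Normal := by rw [hAdef]; infer_instance
  have hAK : ∀ a ∈ A, ∀ k ∈ K, k * a = a * k := by
    intro a ha k hk
    rw [hAdef, Subgroup.mem_centralizer_iff] at ha
    exact ha k hk
  have hAc : ∀ a ∈ A, ∀ b ∈ A, a * b = b * a := fun a ha b hb =>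
    centralizer_comm hirr (hAK a ha) (hAK b hb)
  have hS : Scal E A := by
    rcases dich h2 hp hpE hcop A with h | h | h
    · exact absurd h hni
    · exact h.scal hAc
    · exact h
  obtain ⟨F, _, _, _, ⟨f⟩⟩ := exists_fd A hS
  obtain ⟨a, ha1, hFa, hCa⟩ := f.numbers hp hpE
  have hchar : CharP F p := charP hp hpE
  have hfinFE : Module.Finite F E := Module.Finite.of_finite
  obtain ⟨m, hm⟩ : ∃ m, Module.finrank F E = m := ⟨_, rfl⟩
  have hnam : n = a * m := by
    have h3 := Module.natCard_eq_pow_finrank (K := F) (V := E)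
    rw [hm, hFa, hE, ← pow_mul] at h3
    exact Nat.pow_right_injective hp.two_le h3
  have hKC : K ≤ Subgroup.centralizer (A : Set D) := by
    intro k hk
    rw [Subgroup.mem_centralizer_iff]
    intro b hb
    exact (hAK b hb k hk).symm
  obtain ⟨z, hz1, hz2⟩ := Count.count A hCa
  have hDcard := Count.card_le h2
  have hker : (psi K).ker = A := by rw [hAdef]; exact psi_ker K hK.2.1
  let e : (D ⧸ A) ≃* (psi K).range :=
    (QuotientGroup.quotientMulEquivOfEq hker.symm).trans (QuotientGroup.quotientKerEquivRange (psi K))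
  have hXq : Nat.card (D ⧸ A) = Nat.card (psi K).range := Nat.card_congr e.toEquiv
  have hXcl : Nat.card (ConjClasses (D ⧸ A)) = Nat.card (ConjClasses (psi K).range) :=
    H697.ClassCount.card_conjClasses_congr e
  have hDA : Nat.card D = Nat.card (psi K).range * Nat.card A := by
    rw [← hXq]
    exact Subgroup.card_eq_card_quotient_mul_card_subgroup A
  have hsimple : IsSimpleGroup (K ⧸ Subgroup.center K) := hK.2.2
  have hna := not_comm_quot hK.2
  have hnc := quasisimple_not_isMulCommutative hK.2
  have hm0 : m ≠ 0 := by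
    rintro rfl
    omega
  rcases Nat.lt_or_ge m 3 with hm3 | hm3
  · have hm12 : m = 1 ∨ m = 2 := by omega
    rcases hm12 with rfl | rfl
    · exfalso
      apply hnc
      refine ⟨⟨fun x y => mat_injective f K hKC hm ?_⟩⟩
      rw [map_mul, map_mul]
      exact comm_gl_one _ _
    · -- dimension two
      by_contra hcon
      push Not at hcon
      obtain ⟨C, hCdef⟩ : ∃ C : Subgroup D, C = Subgroup.centralizer (A : Set D) := ⟨_, rfl⟩
      have hCle : C ≤ Subgroup.centralizer (A : Set D) := hCdef.le
      have hKC' : K ≤ C := by rw [hCdef]; exact hKC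
      have hcopC : ¬ p ∣ Nat.card C := fun h => hcop (h.trans (Subgroup.card_subgroup_dvd_card C))
      have hfs : FaithfulSMul C E := ⟨fun {x y} h => Subtype.ext
        (FaithfulSMul.eq_of_smul_eq_smul (α := E) fun e => h e)⟩
      obtain ⟨Z, hZn, hZ, hcases⟩ := H717.Dickson.cases (K := F) p (D := C) (E := E) hm
        (fun d c e => f.commute (hCle d.2) c e) hcopC
      have hZle : Nat.card Z ≤ Nat.card A := by
        refine Nat.card_le_card_of_injective
          (fun x : Z => (⟨((x : C) : D), ?_⟩ : A)) ?_
        · rw [hAdef, Subgroup.mem_centralizer_iff]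
          intro k hk
          obtain ⟨c, hc⟩ := (hZ x).1 x.2
          apply FaithfulSMul.eq_of_smul_eq_smul (α := E)
          intro v
          have h3 : ∀ w : E, ((x : C) : D) • w = c • w := hc
          rw [mul_smul, mul_smul, h3, h3, f.commute (hKC hk)]
        · intro x y hxy
          apply Subtype.ext
          apply Subtype.ext
          exact congrArg (fun x : A => (x : D)) hxy
      have hidx : Nat.card (C ⧸ Z) ≤ 60 := by
        rcases hcases with ⟨B, hBn, hBc, hBi, -⟩ | ⟨⟨g⟩⟩ | ⟨⟨g⟩⟩ | ⟨⟨g⟩⟩
        · exfalso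
          apply hnc
          have hKB : K.subgroupOf C ≤ B := by
            have hperf : ⁅K, K⁆ = K := component_commutator_self hK
            have hBcomm : ∀ x y : C, ⁅x, y⁆ ∈ B := by
              intro x y
              have h3 : Nat.card (C ⧸ B) ∣ 2 := hBi
              have h4 : ∀ u v : C ⧸ B, u * v = v * u := by
                rcases (Nat.dvd_prime Nat.prime_two).1 h3 with h5 | h5
                · have := (Nat.card_eq_one_iff_unique.1 h5).1
                  exact fun u v => Subsingleton.elim _ _
                · have : Fact (Nat.Prime 2) := ⟨Nat.prime_two⟩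
                  have hcyc : IsCyclic (C ⧸ B) := isCyclic_of_prime_card h5
                  exact fun u v => (IsCyclic.commGroup (α := C ⧸ B)).mul_comm u v
              rw [← QuotientGroup.eq_one_iff]
              have h5 : (QuotientGroup.mk' B) ⁅x, y⁆ = 1 := by
                rw [map_commutatorElement, commutatorElement_eq_one_iff_mul_comm]
                exact h4 _ _
              exact h5
            have h6 : K ≤ B.map C.subtype := by
              rw [← hperf, Subgroup.commutator_le]
              intro x hx y hy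
              exact ⟨⁅(⟨x, hKC' hx⟩ : C), (⟨y, hKC' hy⟩ : C)⁆, hBcomm _ _, rfl⟩
            intro x hx
            obtain ⟨y, hy, hyx⟩ := h6 (Subgroup.mem_subgroupOf.1 hx)
            have : y = x := Subtype.ext hyx
            rwa [← this]
          refine ⟨⟨fun x y => Subtype.ext ?_⟩⟩
          have h7 := hBc ⟨x, hKC' x.2⟩ (hKB x.2) ⟨y, hKC' y.2⟩ (hKB y.2)
          exact congrArg (fun x : C => (x : D)) h7
        · rw [Nat.card_congr g.toEquiv, nat_card_alternatingGroup, Nat.card_eq_fintype_card, Fintype.card_fin]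
          decide
        · rw [Nat.card_congr g.toEquiv, Nat.card_perm, Nat.card_eq_fintype_card, Fintype.card_fin]
          decide
        · rw [Nat.card_congr g.toEquiv, nat_card_alternatingGroup, Nat.card_eq_fintype_card, Fintype.card_fin]
          decide
      have hCcard : Nat.card C ≤ 60 * Nat.card A := by
        rw [Subgroup.card_eq_card_quotient_mul_card_subgroup Z]
        exact Nat.mul_le_mul hidx hZle
      have hDC : Nat.card D ≤ Nat.card C * a := by
        rw [← C.card_mul_index]
        refine Nat.mul_le_mul_left _ ?_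
        rw [hCdef]
        exact hCa
      have hpos : 1 ≤ Nat.card (ConjClasses (D ⧸ A)) := Nat.card_pos
      have hz3 : 2 * z ≤ p - 1 := by omega
      have ha2 : 2 ≤ a := by omega
      have h60 := arith2 ha2
      have h8 : 2 * Nat.card D ≤ 60 * a ^ 2 * (p - 1) := by
        calc 2 * Nat.card D ≤ 2 * (Nat.card C * a) := Nat.mul_le_mul_left _ hDC
          _ ≤ 2 * (60 * Nat.card A * a) := Nat.mul_le_mul_left _ (Nat.mul_le_mul_right _ hCcard)
          _ ≤ 2 * (60 * (a * z) * a) :=
              Nat.mul_le_mul_left _ (Nat.mul_le_mul_right _ (Nat.mul_le_mul_left _ hz1))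
          _ = 60 * a ^ 2 * (2 * z) := by ring
          _ ≤ _ := Nat.mul_le_mul_left _ hz3
      have h9 : p ^ (a + 1) * (p - 1) + 1 ≤ p ^ (a * 2) := by
        have h10 : p ^ (a * 2) = p ^ (a + 2) * p ^ (a - 2) := by
          rw [← pow_add]
          congr 1
          omega
        have h11 : 1 ≤ p ^ (a - 2) := Nat.one_le_pow _ _ hp.pos
        have h12 : p ^ (a + 2) = p ^ (a + 1) * (p - 1) + p ^ (a + 1) := by
          have : p ^ (a + 2) = p ^ (a + 1) * ((p - 1) + 1) := by
            rw [Nat.sub_add_cancel hp.one_le]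
            ring
          rw [this]
          ring
        have h13 : 1 ≤ p ^ (a + 1) := Nat.one_le_pow _ _ hp.pos
        have h17 : p ^ (a + 2) ≤ p ^ (a + 2) * p ^ (a - 2) := Nat.le_mul_of_pos_right _ h11
        omega
      have h14 : 11 ^ (a + 1) ≤ p ^ (a + 1) := Nat.pow_le_pow_left hp11 _
      have h15 : 1 ≤ p - 1 := by omega
      have h16 : 60 * a ^ 2 * (p - 1) < p ^ (a + 1) * (p - 1) :=
        Nat.mul_lt_mul_of_pos_right (by omega) (by omega)
      rw [hE, hnam] at hDcard
      omega
  · -- dimension at least three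
    have hrep : Rep.{u, u} p m (K ⧸ Subgroup.center K) := by
      refine ⟨F, inferInstance, inferInstance, hchar, K, inferInstance, inferInstance, QuotientGroup.mk' _,
        mat f K hKC hm, QuotientGroup.mk'_surjective _, ?_, hK.2.1.commutator_eq_top, mat_injective f K hKC hm, ?_⟩
      · rw [QuotientGroup.ker_mk']
      · exact fun h => hcop (h.trans (Subgroup.card_subgroup_dvd_card K))
    have hpT : ¬ p ∣ Nat.card (K ⧸ Subgroup.center K) := fun h =>
      hcop ((h.trans (Subgroup.card_quotient_dvd_card _)).trans (Subgroup.card_subgroup_dvd_card K))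
    have hineq : p ^ m ≤ 2 * z * Nat.card (psi K).range + 1 := by
      have h3 := arith1 (a := a) (q := p ^ m) (Nat.one_le_pow _ _ hp.pos)
      rw [← pow_mul, mul_comm m a] at h3
      have h4 : 2 * Nat.card D ≤ a * (2 * z * Nat.card (psi K).range) := by
        rw [hDA]
        calc 2 * (Nat.card (psi K).range * Nat.card A) ≤ 2 * (Nat.card (psi K).range * (a * z)) :=
              Nat.mul_le_mul_left _ (Nat.mul_le_mul_left _ hz1)
          _ = _ := by ring
      rw [hE, hnam] at hDcard
      have h5 : a * (p ^ m - 1) ≤ a * (2 * z * Nat.card (psi K).range) := by omega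
      have h6 := Nat.le_of_mul_le_mul_left h5 (by omega)
      omega
    have hfine := hF (K ⧸ Subgroup.center K) hna p m hp hp11 hpT hm3 hrep (psi K).range (conj_range_le K) z hineq
    rw [hXcl] at hz2
    omega

end Cfsg.Agent.H698.CaseS
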