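import Mathlib
import Cfsg.Agent.H698.CaseS

/-!
# Linear independence of coset representatives
-/

set_option autoImplicit false

namespace Cfsg.Agent.H698.LinInd

open Cfsg.Agent.H698.Fld Cfsg.Agent.H698.CaseS

universe u v

/-- Joint eigenvectors with distinct joint eigenvalues are independent. -/
theorem linearIndependent {F V ι Y : Type*} [Field F] [AddCommGroup V] [Module F V] (x : ι → V) (hx : ∀ i, x i ≠ 0)
    (T : Y → V →ₗ[F] V) (l : ι → Y → F) (hT : ∀ y i, T y (x i) = l i y • x i)
    (hl : ∀ i j, i ≠ j → ∃ y, l i y ≠ l j y) : LinearIndependent F x := by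
  classical
  rw [linearIndependent_iff']
  intro s
  induction s using Finset.induction_on with
  | empty =>
    intro g _ i hi
    exact absurd hi (Finset.notMem_empty i)
  | insert j s hj ih =>
    intro g hg
    have key : ∀ i ∈ s, g i = 0 := by
      intro i hi
      obtain ⟨y, hy⟩ := hl i j (fun h => hj (h ▸ hi))
      have h1 : ∑ i ∈ s, (g i * (l i y - l j y)) • x i = 0 := by
        have h2 := congrArg (T y) hg
        rw [map_sum, map_zero, Finset.sum_insert hj] at h2
        rw [Finset.sum_insert hj] at hg
        have h3 : ∑ i ∈ s, (g i * (l i y - l j y)) • x i =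
            (T y (g j • x j) + ∑ i ∈ s, T y (g i • x i)) - l j y • (g j • x j + ∑ i ∈ s, g i • x i) := by
          rw [map_smul, hT, smul_add, Finset.smul_sum, add_sub_add_comm, smul_comm (g j), sub_self, zero_add,
            ← Finset.sum_sub_distrib]
          refine Finset.sum_congr rfl fun k _ => ?_
          rw [map_smul, hT, smul_smul, smul_smul, ← sub_smul]
          congr 1
          ring
        rw [h3, h2, hg, smul_zero, sub_zero]
      have h4 := ih _ h1 i hi
      rcases mul_eq_zero.1 h4 with h5 | h5
      · exact h5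
      · exact absurd (sub_eq_zero.1 h5) hy
    intro i hi
    rcases Finset.mem_insert.1 hi with rfl | hi
    · rw [Finset.sum_insert hj, Finset.sum_eq_zero (fun k hk => by rw [key k hk, zero_smul]), add_zero] at hg
      rcases smul_eq_zero.1 hg with h5 | h5
      · exact h5
      · exact absurd h5 (hx i)
    · exact key i hi

open scoped commutatorElement

/-- **A class-two linear group is not larger than the full endomorphism ring.** -/
theorem relIndex_le {D E : Type u} [Group D] [Finite D] [AddCommGroup E] [Finite E] [Nontrivial E]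
    [DistribMulAction D E] [FaithfulSMul D E] {A : Subgroup D} {F : Type u} [Field F] [Module F E]
    [Module.Finite F E] (f : FD A E F) {N : Subgroup D} (hN : N ≤ Subgroup.centralizer (A : Set D))
    (hcomm : ∀ x ∈ N, ∀ y ∈ N, ⁅x, y⁆ ∈ A) (hZ : ∀ x ∈ N, (∀ y ∈ N, x * y = y * x) → x ∈ A) {m : ℕ}
    (hm : Module.finrank F E = m) : A.relIndex N ≤ m ^ 2 := by
  classical
  have hfin : Finite (N ⧸ A.subgroupOf N) := inferInstance
  have : Fintype (N ⧸ A.subgroupOf N) := Fintype.ofFinite _
  let x : N ⧸ A.subgroupOf N → (E →ₗ[F] E) := fun q => lin f N hN q.out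
  let T : N → (E →ₗ[F] E) →ₗ[F] (E →ₗ[F] E) := fun y =>
    { toFun := fun g => lin f N hN y * g * lin f N hN y⁻¹
      map_add' := fun a b => by rw [mul_add, add_mul]
      map_smul' := fun c a => by
        rw [RingHom.id_apply, mul_smul_comm, smul_mul_assoc] }
  let l : N ⧸ A.subgroupOf N → N → F := fun q y =>
    ((f.φ ⟨⁅(y : D), (q.out : D)⁆, hcomm _ y.2 _ q.out.2⟩ : Fˣ) : F)
  have hli : LinearIndependent F x := by
    refine linearIndependent x ?_ T l ?_ ?_
    · intro q h
      obtain ⟨v, hv⟩ := exists_ne (0 : E)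
      have h1 : ((q.out : N) : D) • v = 0 := LinearMap.congr_fun h v
      exact hv ((smul_eq_zero_iff_eq ((q.out : N) : D)).1 h1)
    · intro y q
      refine LinearMap.ext fun v => ?_
      change (y : D) • (((q.out : N) : D) • (((y⁻¹ : N) : D) • v)) = l q y • (((q.out : N) : D) • v)
      change _ = ((f.φ ⟨⁅(y : D), (q.out : D)⁆, hcomm _ y.2 _ q.out.2⟩ : Fˣ) : F) • (((q.out : N) : D) • v)
      rw [f.hφ, ← mul_smul, ← mul_smul, ← mul_smul]
      congr 1
      change (y : D) * ((q.out : N) : D) * (y : D)⁻¹ =
        ((y : D) * ((q.out : N) : D) * (y : D)⁻¹ * (((q.out : N) : D))⁻¹) * ((q.out : N) : D)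
      group
    · intro q q' hne
      by_contra hcon
      push Not at hcon
      apply hne
      have h1 : ∀ y : N, ⁅(y : D), (q.out : D)⁆ = ⁅(y : D), (q'.out : D)⁆ := by
        intro y
        have h2 := f.injective (Units.ext (hcon y))
        exact congrArg Subtype.val h2
      have h3 : (((q'.out : N) : D))⁻¹ * ((q.out : N) : D) ∈ A := by
        refine hZ _ (N.mul_mem (N.inv_mem q'.out.2) q.out.2) ?_
        intro y hy
        have h4 := h1 ⟨y⁻¹, N.inv_mem hy⟩
        rw [commutatorElement_def, commutatorElement_def] at h4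
        have h5 : ((q.out : N) : D) * y * (((q.out : N) : D))⁻¹ = ((q'.out : N) : D) * y * (((q'.out : N) : D))⁻¹ := by
          have h6 := congrArg (fun t => y * t) h4
          simp only [inv_inv] at h6
          have e1 : ∀ u : D, y * (y⁻¹ * u * y * u⁻¹) = u * y * u⁻¹ := fun u => by group
          rwa [e1, e1] at h6
        calc (((q'.out : N) : D))⁻¹ * ((q.out : N) : D) * y =
            (((q'.out : N) : D))⁻¹ * (((q.out : N) : D) * y * (((q.out : N) : D))⁻¹) * ((q.out : N) : D) := by group
          _ = (((q'.out : N) : D))⁻¹ * (((q'.out : N) : D) * y * (((q'.out : N) : D))⁻¹) * ((q.out : N) : D) := by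
              rw [h5]
          _ = _ := by group
      have h4 : (q'.out : N ⧸ A.subgroupOf N) = (q.out : N ⧸ A.subgroupOf N) := by
        rw [QuotientGroup.eq, Subgroup.mem_subgroupOf]
        exact h3
      have h5 : ∀ q : N ⧸ A.subgroupOf N, ((q.out : N) : N ⧸ A.subgroupOf N) = q := fun q => QuotientGroup.out_eq' q
      rw [← h5 q, ← h5 q', h4]
  have h1 := hli.fintype_card_le_finrank
  rw [Module.finrank_linearMap, hm] at h1
  have h2 : A.relIndex N = Fintype.card (N ⧸ A.subgroupOf N) := by
    rw [← Nat.card_eq_fintype_card]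
    rfl
  rw [h2, sq]
  exact h1

end Cfsg.Agent.H698.LinInd
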