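import Mathlib
import Cfsg.Agent.SignalizersComponents.ComponentExists
import Cfsg.Agent.SignalizersComponents.Components
import Cfsg.Agent.Lib.Cores

/-!
# Minimal normal subgroups above an abelian normal subgroup, in groups without components
-/

set_option autoImplicit false

namespace Cfsg.Agent.H698.MinN

open Cfsg Subgroup
open scoped commutatorElement

variable {D : Type*} [Group D]

theorem exists_min [Finite D] (hlay : ∀ K : Subgroup D, ¬ IsComponent K) {A : Subgroup D}
    (hAn : A.Normal) (hAc : ∀ a ∈ A, ∀ b ∈ A, a * b = b * a) (hC : ¬ centralizer (A : Set D) ≤ A) :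
    ∃ N : Subgroup D, N.Normal ∧ A < N ∧ N ≤ centralizer (A : Set D) ∧ (∀ x ∈ N, ∀ y ∈ N, ⁅x, y⁆ ∈ A) ∧
      ∃ r : ℕ, r.Prime ∧ ∀ x ∈ N, x ^ r ∈ A := by
  have hAC : A ≤ centralizer (A : Set D) := fun a ha => mem_centralizer_iff.2 fun b hb => hAc b hb a ha
  obtain ⟨N, hN⟩ := Set.Finite.exists_minimal
    (s := {N : Subgroup D | N.Normal ∧ A < N ∧ N ≤ centralizer (A : Set D)}) (Set.toFinite _)
    ⟨centralizer (A : Set D), inferInstance, lt_of_le_of_ne hAC (fun h => hC h.symm.le), le_rfl⟩
  obtain ⟨⟨hNn, hAN, hNC⟩, hmin⟩ := hN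
  have hmin' : ∀ M : Subgroup D, M.Normal → A ≤ M → M ≤ N → M = A ∨ M = N := by
    intro M hM h1 h2
    by_cases h3 : M = A
    · exact Or.inl h3
    · right
      exact le_antisymm h2 (hmin ⟨hM, lt_of_le_of_ne h1 (Ne.symm h3), h2.trans hNC⟩ h2)
  have hcen : ∀ x ∈ N, ∀ a ∈ A, a * x = x * a := fun x hx a ha => mem_centralizer_iff.1 (hNC hx) a ha
  -- commutators
  have hcomm : ∀ x ∈ N, ∀ y ∈ N, ⁅x, y⁆ ∈ A := by
    by_contra hcon
    let M : Subgroup D := ⁅N, N⁆
    have hMn : M.Normal := inferInstance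
    have hMN : M ≤ N := commutator_le_left N N
    have h1 : M ⊔ A = N := by
      rcases hmin' (M ⊔ A) inferInstance le_sup_right (sup_le hMN hAN.le) with h | h
      · exfalso
        apply hcon
        intro x hx y hy
        have : M ≤ A := by rw [← h]; exact le_sup_left
        exact this (commutator_mem_commutator hx hy)
      · exact h
    -- `M` is perfect
    have hMperf : ⁅M, M⁆ = M := by
      apply le_antisymm (commutator_le_left M M)
      change ⁅N, N⁆ ≤ ⁅M, M⁆
      rw [commutator_le]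
      intro x hx y hy
      rw [← h1] at hx hy
      obtain ⟨m, hm, a, ha, rfl⟩ := mem_sup_of_normal_right.1 hx
      obtain ⟨m', hm', a', ha', rfl⟩ := mem_sup_of_normal_right.1 hy
      have c1 : ∀ b ∈ A, ∀ x ∈ N, b * x = x * b := fun b hb x hx => hcen x hx b hb
      have e1 : ⁅m * a, m' * a'⁆ = ⁅m, m'⁆ := by
        have k1 := c1 a ha (m' * a') (N.mul_mem (hMN hm') (hAN.le ha'))
        have k2 := c1 a' ha' m⁻¹ (N.inv_mem (hMN hm))
        calc ⁅m * a, m' * a'⁆ = m * (a * (m' * a')) * a⁻¹ * m⁻¹ * (m' * a')⁻¹ := by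
              rw [commutatorElement_def]; group
          _ = m * (m' * a' * a) * a⁻¹ * m⁻¹ * (m' * a')⁻¹ := by rw [k1]
          _ = m * m' * (a' * m⁻¹) * (m' * a')⁻¹ := by group
          _ = m * m' * (m⁻¹ * a') * (m' * a')⁻¹ := by rw [k2]
          _ = ⁅m, m'⁆ := by rw [commutatorElement_def]; group
      rw [e1]
      exact commutator_mem_commutator hm hm'
    have hMne : M ≠ ⊥ := by
      intro h
      rw [h, bot_sup_eq] at h1
      exact hAN.ne h1
    have hMns : ¬ Group.IsSolvable M := by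
      intro hs
      have hp : Group.IsPerfect M := isPerfect_iff.mpr hMperf
      have hnt : Nontrivial M := (Subgroup.nontrivial_iff_ne_bot M).2 hMne
      exact Group.IsPerfect.not_isSolvable M hs
    have hΦn : (fittingSubgroup D).Normal := SignalizersComponents.ComponentExists.fittingSubgroup_normal D
    have hΦs : Group.IsSolvable (fittingSubgroup D) := by
      have := Lib.Cores.fittingSubgroup_isNilpotent (G := D)
      infer_instance
    have hAΦ : A ≤ fittingSubgroup D := by
      refine SignalizersComponents.ComponentExists.le_fittingSubgroup hAn ?_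
      apply SignalizersComponents.ComponentExists.isNilpotent_of_commutator_commutator
      have h2 : ⁅A, A⁆ = ⊥ := by
        rw [commutator_eq_bot_iff_le_centralizer]
        exact hAC
      rw [h2, commutator_bot_left]
    rcases hmin' (fittingSubgroup D ⊓ N) inferInstance (le_inf hAΦ hAN.le) inf_le_right with h | h
    · -- three subgroups
      have h3 : ⁅⁅fittingSubgroup D, N⁆, N⁆ = ⊥ := by
        have h4 : ⁅fittingSubgroup D, N⁆ ≤ A := by
          rw [← h]
          exact commutator_le_inf _ _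
        rw [commutator_eq_bot_iff_le_centralizer]
        refine h4.trans ?_
        intro a ha
        rw [mem_centralizer_iff]
        intro x hx
        exact (hcen x hx a ha).symm
      have h4 : ⁅⁅N, fittingSubgroup D⁆, N⁆ = ⊥ := by rw [commutator_comm N]; exact h3
      have h5 := commutator_commutator_eq_bot_of_rotate h4 h3
      have h6 : M ≤ centralizer (fittingSubgroup D : Set D) := commutator_eq_bot_iff_le_centralizer.1 h5
      obtain ⟨K, hK, -⟩ := SignalizersComponents.ComponentExists.exists_isComponent_le hMn.isSubnormal hMns h6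
      exact hlay K hK
    · apply hMns
      refine SignalizersComponents.ComponentExists.isSolvable_of_le ?_ hΦs
      refine hMN.trans ?_
      rw [← h]
      exact inf_le_left
  refine ⟨N, hNn, hAN, hNC, hcomm, ?_⟩
  -- exponent
  have hlt : 1 < A.relIndex N := by
    have h1 : A.relIndex N ≠ 0 := index_ne_zero_of_finite
    have h2 : A.relIndex N ≠ 1 := fun h => hAN.not_ge (relIndex_eq_one.1 h)
    omega
  obtain ⟨r, hr, hrd⟩ := Nat.exists_prime_and_dvd hlt.ne'
  have : Fact r.Prime := ⟨hr⟩
  have hAn' : (A.subgroupOf N).Normal := hAn.subgroupOf N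
  have hmul : ∀ x ∈ N, ∀ y ∈ N, ∀ k : ℕ, ∃ a ∈ A, (x * y) ^ k = x ^ k * y ^ k * a := by
    intro x hx y hy k
    have hq : ∀ u v : N ⧸ A.subgroupOf N, u * v = v * u := by
      intro u v
      induction u using QuotientGroup.induction_on with
      | H u =>
        induction v using QuotientGroup.induction_on with
        | H v =>
          rw [← QuotientGroup.mk_mul, ← QuotientGroup.mk_mul, QuotientGroup.eq, mem_subgroupOf]
          have h1 := hcomm (v : D)⁻¹ (N.inv_mem v.2) (u : D)⁻¹ (N.inv_mem u.2)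
          rw [commutatorElement_def] at h1
          have h2 : (((u * v)⁻¹ * (v * u) : N) : D) = (v : D)⁻¹ * (u : D)⁻¹ * (v : D)⁻¹⁻¹ * (u : D)⁻¹⁻¹ := by
            push_cast
            group
          rw [h2]
          exact h1
    have h1 : ((⟨x, hx⟩ * ⟨y, hy⟩ : N) : N ⧸ A.subgroupOf N) ^ k =
        ((⟨x, hx⟩ : N) : N ⧸ A.subgroupOf N) ^ k * ((⟨y, hy⟩ : N) : N ⧸ A.subgroupOf N) ^ k := by
      rw [QuotientGroup.mk_mul]
      exact Commute.mul_pow (hq _ _) k
    rw [← QuotientGroup.mk_pow, ← QuotientGroup.mk_pow, ← QuotientGroup.mk_pow, ← QuotientGroup.mk_mul,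
      eq_comm, QuotientGroup.eq, mem_subgroupOf] at h1
    refine ⟨_, h1, ?_⟩
    push_cast
    group
  let P : Subgroup D :=
    { carrier := {x | x ∈ N ∧ x ^ r ∈ A}
      one_mem' := ⟨N.one_mem, by rw [one_pow]; exact A.one_mem⟩
      mul_mem' := by
        rintro x y ⟨hx, hx'⟩ ⟨hy, hy'⟩
        refine ⟨N.mul_mem hx hy, ?_⟩
        obtain ⟨a, ha, h⟩ := hmul x hx y hy r
        rw [h]
        exact A.mul_mem (A.mul_mem hx' hy') ha
      inv_mem' := by
        rintro x ⟨hx, hx'⟩
        exact ⟨N.inv_mem hx, by rw [inv_pow]; exact A.inv_mem hx'⟩ }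
  have hPn : P.Normal := ⟨by
    rintro x ⟨hx, hx'⟩ g
    refine ⟨hNn.conj_mem x hx g, ?_⟩
    rw [conj_pow]
    exact hAn.conj_mem _ hx' g⟩
  refine ⟨r, hr, ?_⟩
  rcases hmin' P hPn (fun a ha => ⟨hAN.le ha, A.pow_mem ha r⟩) (fun x hx => hx.1) with h | h
  · exfalso
    have h1 : r ∣ Nat.card (N ⧸ A.subgroupOf N) := hrd
    obtain ⟨u, hu⟩ := exists_prime_orderOf_dvd_card' r h1
    obtain ⟨x, rfl⟩ := QuotientGroup.mk_surjective u
    have h2 : (x : N ⧸ A.subgroupOf N) ^ r = 1 := by rw [← hu, pow_orderOf_eq_one]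
    rw [← QuotientGroup.mk_pow, QuotientGroup.eq_one_iff, mem_subgroupOf] at h2
    have h3 : (x : D) ∈ P := ⟨x.2, h2⟩
    rw [h] at h3
    have h4 : (x : N ⧸ A.subgroupOf N) = 1 := by
      rw [QuotientGroup.eq_one_iff, mem_subgroupOf]
      exact h3
    rw [h4, orderOf_one] at hu
    exact hr.one_lt.ne hu
  · intro x hx
    rw [← h] at hx
    exact hx.2

end Cfsg.Agent.H698.MinN
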