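import Mathlib

/-!
# Numerics for the symplectic case
-/

set_option autoImplicit false

namespace Cfsg.Agent.H698.NumE

/-- `(m + 1) ^ k ≤ 11 m ^ k` for `k ≤ 2 m`. -/
theorem step {m k : ℕ} (hm : 1 ≤ m) (hk : k ≤ 2 * m) : (m + 1) ^ k ≤ 11 * m ^ k := by
  have hm0 : (0 : ℝ) < m := by exact_mod_cast hm
  have h1 : ((m : ℝ) + 1) = m * (1 + 1 / m) := by field_simp
  have h2 : (1 + 1 / (m : ℝ)) ^ k ≤ 11 := by
    calc (1 + 1 / (m : ℝ)) ^ k ≤ (Real.exp (1 / m)) ^ k := by
          refine pow_le_pow_left₀ (by positivity) ?_ k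
          have := Real.add_one_le_exp (1 / (m : ℝ))
          linarith
      _ = Real.exp (k * (1 / m)) := by rw [← Real.exp_nat_mul]
      _ ≤ Real.exp 2 := by
          rw [Real.exp_le_exp]
          rw [mul_one_div, div_le_iff₀ hm0]
          exact_mod_cast hk
      _ = Real.exp 1 ^ 2 := by rw [← Real.exp_nat_mul]; norm_num
      _ ≤ 3 ^ 2 := pow_le_pow_left₀ (Real.exp_pos 1).le (Real.exp_one_lt_three.le) 2
      _ ≤ 11 := by norm_num
  have h3 : ((m : ℝ) + 1) ^ k ≤ 11 * (m : ℝ) ^ k := by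
    rw [h1, mul_pow, mul_comm]
    exact mul_le_mul_of_nonneg_right h2 (by positivity)
  exact_mod_cast h3

theorem grow {m₀ k : ℕ} (hm0 : 1 ≤ m₀) (h0 : m₀ ^ k ≤ 11 ^ (m₀ - 1)) (hk : k ≤ 2 * m₀) {m : ℕ} (hm : m₀ ≤ m) :
    m ^ k ≤ 11 ^ (m - 1) := by
  induction m, hm using Nat.le_induction with
  | base => exact h0
  | succ m hm ih =>
    have h1 := step (m := m) (k := k) (by omega) (by omega)
    calc (m + 1) ^ k ≤ 11 * m ^ k := h1
      _ ≤ 11 * 11 ^ (m - 1) := Nat.mul_le_mul_left _ ih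
      _ = 11 ^ (m + 1 - 1) := by
          rw [← pow_succ']
          congr 1
          omega

theorem big {j m : ℕ} (hj : 4 ≤ j) (hm : 2 ^ j ≤ m) : m ^ (2 * j + 3) ≤ 11 ^ (m - 1) := by
  have h1 : ∀ j, 4 ≤ j → j * (2 * j + 3) ≤ 3 * (2 ^ j - 1) ∧ 2 * j + 3 ≤ 2 * 2 ^ j := by
    intro j hj
    induction j, hj using Nat.le_induction with
    | base => norm_num
    | succ j hj ih =>
      obtain ⟨ih1, ih2⟩ := ih
      have h2 : 2 ^ (j + 1) = 2 * 2 ^ j := by ring
      have h3 : 1 ≤ 2 ^ j := Nat.one_le_two_pow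
      constructor
      · rw [h2]
        obtain ⟨t, ht⟩ : ∃ t, 2 ^ j = t + 1 := ⟨2 ^ j - 1, by omega⟩
        rw [ht] at ih1 ⊢
        have e1 : 2 * (t + 1) - 1 = 2 * t + 1 := by omega
        rw [e1]
        rw [Nat.add_sub_cancel] at ih1
        nlinarith
      · rw [h2]
        omega
  obtain ⟨h2, h3⟩ := h1 j hj
  refine grow (m₀ := 2 ^ j) Nat.one_le_two_pow ?_ h3 hm
  calc (2 ^ j) ^ (2 * j + 3) = 2 ^ (j * (2 * j + 3)) := by rw [← pow_mul]
    _ ≤ 2 ^ (3 * (2 ^ j - 1)) := Nat.pow_le_pow_right (by norm_num) h2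
    _ = 8 ^ (2 ^ j - 1) := by rw [pow_mul]; norm_num
    _ ≤ 11 ^ (2 ^ j - 1) := Nat.pow_le_pow_left (by norm_num) _

/-- The bound for `a ≥ 2`. -/
theorem bound2 {j m r : ℕ} (hj : 1 ≤ j) (hr : 2 ≤ r) (hrm : r ^ j ≤ m) : r ^ (2 * j ^ 2 + 3 * j) ≤ 2 * 11 ^ m := by
  have h1 : r ^ (2 * j ^ 2 + 3 * j) = (r ^ j) ^ (2 * j + 3) := by
    rw [← pow_mul]
    congr 1
    ring
  have h2 : 2 ^ j ≤ m := (Nat.pow_le_pow_left hr j).trans hrm
  have h3 : r ^ (2 * j ^ 2 + 3 * j) ≤ m ^ (2 * j + 3) := by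
    rw [h1]
    exact Nat.pow_le_pow_left hrm _
  refine h3.trans ?_
  have key : m ^ (2 * j + 3) ≤ 11 ^ (m - 1) → m ^ (2 * j + 3) ≤ 2 * 11 ^ m := by
    intro h
    refine h.trans ?_
    have : 11 ^ (m - 1) ≤ 11 ^ m := Nat.pow_le_pow_right (by norm_num) (by omega)
    omega
  rcases Nat.lt_or_ge j 4 with hj4 | hj4
  · interval_cases j
    · rcases Nat.lt_or_ge m 4 with hm | hm
      · interval_cases m <;> norm_num at *
      · exact key (grow (m₀ := 4) (by norm_num) (by norm_num) (by norm_num) hm)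
    · rcases Nat.lt_or_ge m 7 with hm | hm
      · interval_cases m <;> norm_num at *
      · exact key (grow (m₀ := 7) (by norm_num) (by norm_num) (by norm_num) hm)
    · rcases Nat.lt_or_ge m 10 with hm | hm
      · interval_cases m <;> norm_num at *
      · exact key (grow (m₀ := 10) (by norm_num) (by norm_num) (by norm_num) hm)
  · exact key (big hj4 h2)

/-- The bound for `a = 1`: two exceptions. -/
theorem bound1 {j m r : ℕ} (hj : 1 ≤ j) (hr : 2 ≤ r) (hrm : r ^ j ≤ m) (hm4 : 4 ≤ m) (heven : 2 ∣ m) :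
    r ^ (2 * j ^ 2 + 3 * j) ≤ 11 ^ (m - 1) ∨ (m = 4 ∧ r = 2 ∧ j = 2) ∨ (m = 8 ∧ r = 2 ∧ j = 3) := by
  have h1 : r ^ (2 * j ^ 2 + 3 * j) = (r ^ j) ^ (2 * j + 3) := by
    rw [← pow_mul]
    congr 1
    ring
  have h2 : 2 ^ j ≤ m := (Nat.pow_le_pow_left hr j).trans hrm
  have h3 : r ^ (2 * j ^ 2 + 3 * j) ≤ m ^ (2 * j + 3) := by
    rw [h1]
    exact Nat.pow_le_pow_left hrm _
  rcases Nat.lt_or_ge j 4 with hj4 | hj4
  · interval_cases j
    · left
      exact h3.trans (grow (m₀ := 4) (by norm_num) (by norm_num) (by norm_num) hm4)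
    · rcases Nat.lt_or_ge m 7 with hm | hm
      · have hr3 : r < 3 := by
          by_contra h
          push Not at h
          have := Nat.pow_le_pow_left h 2
          omega
        have hr2 : r = 2 := by omega
        subst hr2
        interval_cases m
        · right; left; exact ⟨rfl, rfl, rfl⟩
        · omega
        · left; norm_num
      · left
        exact h3.trans (grow (m₀ := 7) (by norm_num) (by norm_num) (by norm_num) hm)
    · rcases Nat.lt_or_ge m 10 with hm | hm
      · have hr3 : r < 3 := by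
          by_contra h
          push Not at h
          have := Nat.pow_le_pow_left h 3
          omega
        have hr2 : r = 2 := by omega
        subst hr2
        norm_num at h2
        interval_cases m
        · right; right; exact ⟨rfl, rfl, rfl⟩
        · omega
      · left
        exact h3.trans (grow (m₀ := 10) (by norm_num) (by norm_num) (by norm_num) hm)
  · left
    exact h3.trans (big hj4 h2)

theorem main {p n a m r j α z Q κ k : ℕ} (hp : p.Prime) (hp11 : 11 ≤ p) (hn : 4 ≤ n) (heven : 2 ∣ n)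
    (hnam : n = a * m) (hr : r.Prime) (hj : 1 ≤ j) (hrm : r ^ j ≤ m) (hrα : r ∣ α) (hα : α ∣ p ^ a - 1)
    (hαz : α ≤ a * z) (hQ : Q ≤ a * r ^ (2 * j ^ 2 + 3 * j)) (hineq : p ^ n ≤ 2 * (α * Q) + 1)
    (hk : z + κ ≤ k + 1) (hκ2 : 2 ≤ κ) (L5 : κ ≤ 5 → Q ≤ 1806)
    (L6 : κ ≤ 6 → Q ≤ 3263442) : p ≤ 2 * k := by
  by_contra hcon
  push Not at hcon
  have hz : 2 * z ≤ p - 3 := by omega
  have ha0 : a ≠ 0 := by
    rintro rfl
    omega
  have hm2 : 2 ≤ m := by
    have h1 : 2 ^ j ≤ r ^ j := Nat.pow_le_pow_left hr.two_le j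
    have h2 : 2 ^ 1 ≤ 2 ^ j := Nat.pow_le_pow_right (by norm_num) hj
    omega
  set S := r ^ (2 * j ^ 2 + 3 * j) with hS
  have hmain : p ^ n ≤ a ^ 2 * S * (p - 3) + 1 := by
    refine hineq.trans ?_
    have : 2 * (α * Q) ≤ a ^ 2 * S * (2 * z) := by
      calc 2 * (α * Q) ≤ 2 * ((a * z) * (a * S)) := Nat.mul_le_mul_left _ (Nat.mul_le_mul hαz hQ)
        _ = _ := by ring
    have h2 : a ^ 2 * S * (2 * z) ≤ a ^ 2 * S * (p - 3) := Nat.mul_le_mul_left _ hz
    omega
  have hfalse : a ^ 2 * S ≤ 11 ^ (n - 1) → False := by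
    intro h
    have h1 : 11 ^ (n - 1) ≤ p ^ (n - 1) := Nat.pow_le_pow_left hp11 _
    have h2 : p ^ n = p ^ (n - 1) * p := by
      rw [← pow_succ]
      congr 1
      omega
    have h3 : a ^ 2 * S * (p - 3) ≤ p ^ (n - 1) * (p - 3) := Nat.mul_le_mul_right _ (h.trans h1)
    have h4 : p ^ (n - 1) * p = p ^ (n - 1) * (p - 3) + p ^ (n - 1) * 3 := by
      rw [← mul_add]
      congr 1
      omega
    have h5 : 1 ≤ p ^ (n - 1) := Nat.one_le_pow _ _ hp.pos
    omega
  rcases Nat.lt_or_ge a 2 with ha | ha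
  · have ha1 : a = 1 := by omega
    subst ha1
    rw [one_mul] at hnam
    subst hnam
    rcases bound1 hj hr.two_le hrm hn heven with h | ⟨rfl, rfl, rfl⟩ | ⟨rfl, rfl, rfl⟩
    · exact hfalse (by rw [one_pow, one_mul]; exact h)
    · -- `n = 4`
      have hS' : S = 16384 := by rw [hS]; norm_num
      rw [hS'] at hQ hmain
      rw [pow_one] at hα
      rw [one_mul] at hαz hQ
      obtain ⟨t, ht⟩ := hα
      have ht3 : 3 ≤ t := by
        by_contra h
        push Not at h
        interval_cases t <;> omega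
      have hα3 : 3 * α ≤ p - 1 := by
        rw [ht, mul_comm]
        exact Nat.mul_le_mul_left _ ht3
      have h1 : p ^ 4 ≤ 32768 * α + 1 := by
        refine hineq.trans ?_
        have := Nat.mul_le_mul_left α hQ
        omega
      have hp21 : p ≤ 22 := by
        by_contra h
        push Not at h
        have h2 : 23 ^ 3 ≤ p ^ 3 := Nat.pow_le_pow_left h 3
        have h3 : p ^ 4 = p ^ 3 * p := by ring
        have h4 : 23 ^ 3 * p ≤ p ^ 3 * p := Nat.mul_le_mul_right _ h2
        omega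
      obtain ⟨β, rfl⟩ := hrα
      have hQ' : p ^ 4 ≤ 4 * (β * Q) + 1 := by
        refine hineq.trans (le_of_eq ?_)
        ring
      have hκ : κ ≤ 5 → False := by
        intro h
        have hQ5 := L5 h
        have h7 : β * Q ≤ β * 1806 := Nat.mul_le_mul_left _ hQ5
        interval_cases p <;> norm_num at hp <;> omega
      have hκ6 : 6 ≤ κ := by
        by_contra h
        exact hκ (by omega)
      interval_cases p <;> norm_num at hp
      · omega
      · omega
      · omega
      · have hβ : β < 4 := by omega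
        interval_cases β <;> omega
    · -- `n = 8`
      have hS' : S = 134217728 := by rw [hS]; norm_num
      rw [hS'] at hQ hmain
      rw [pow_one] at hα
      rw [one_mul] at hαz hQ
      obtain ⟨t, ht⟩ := hα
      have ht3 : 3 ≤ t := by
        by_contra h
        push Not at h
        interval_cases t <;> omega
      have hα3 : 3 * α ≤ p - 1 := by
        rw [ht, mul_comm]
        exact Nat.mul_le_mul_left _ ht3
      have h1 : p ^ 8 ≤ 268435456 * α + 1 := by
        refine hineq.trans ?_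
        have := Nat.mul_le_mul_left α hQ
        omega
      have hp16 : p ≤ 14 := by
        by_contra h
        push Not at h
        have h2 : 15 ^ 7 ≤ p ^ 7 := Nat.pow_le_pow_left h 7
        have h3 : p ^ 8 = p ^ 7 * p := by ring
        have h4 : 15 ^ 7 * p ≤ p ^ 7 * p := Nat.mul_le_mul_right _ h2
        omega
      obtain ⟨β, rfl⟩ := hrα
      have hQ' : p ^ 8 ≤ 4 * (β * Q) + 1 := by
        refine hineq.trans (le_of_eq ?_)
        ring
      have hκ : κ ≤ 6 → False := by
        intro h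
        have hQ5 := L6 h
        have h7 : β * Q ≤ β * 3263442 := Nat.mul_le_mul_left _ hQ5
        interval_cases p <;> norm_num at hp <;> omega
      have hκ6 : 7 ≤ κ := by
        by_contra h
        exact hκ (by omega)
      interval_cases p <;> norm_num at hp
      · omega
      · omega
  · apply hfalse
    have h1 := bound2 hj hr.two_le hrm
    have h2 : ∀ a, 2 ≤ a → 2 * a ^ 2 ≤ 11 ^ (2 * a - 3) := by
      intro a ha
      induction a, ha using Nat.le_induction with
      | base => norm_num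
      | succ a ha ih =>
        have h3 : 2 * (a + 1) - 3 = (2 * a - 3) + 2 := by omega
        rw [h3, pow_add]
        nlinarith
    have h3 := h2 a ha
    have h4 : m + (2 * a - 3) ≤ n - 1 := by
      have : a * m = m + (a - 1) * m := by
        obtain ⟨b, rfl⟩ : ∃ b, a = b + 1 := ⟨a - 1, by omega⟩
        rw [Nat.add_sub_cancel]
        ring
      have h5 : (a - 1) * 2 ≤ (a - 1) * m := Nat.mul_le_mul_left _ hm2
      omega
    calc a ^ 2 * S ≤ a ^ 2 * (2 * 11 ^ m) := Nat.mul_le_mul_left _ h1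
      _ = (2 * a ^ 2) * 11 ^ m := by ring
      _ ≤ 11 ^ (2 * a - 3) * 11 ^ m := Nat.mul_le_mul_right _ h3
      _ = 11 ^ (m + (2 * a - 3)) := by rw [← pow_add, add_comm]
      _ ≤ 11 ^ (n - 1) := Nat.pow_le_pow_right (by norm_num) h4

end Cfsg.Agent.H698.NumE
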