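import Mathlib
import Cfsg.Agent.H698.Dich
import Cfsg.Agent.H698.Fld
import Cfsg.Agent.H698.Count
import Cfsg.Agent.H698.LinInd
import Cfsg.Agent.H698.MinN
import Cfsg.Agent.H698.NumE
import Cfsg.Agent.H698.Landau

/-!
# The case without components
-/

set_option autoImplicit false

namespace Cfsg.Agent.H698.CaseE

open Cfsg Cfsg.Agent.H717.FieldOf Cfsg.Agent.H698.Orb Cfsg.Agent.H698.Idem Cfsg.Agent.H698.Env Cfsg.Agent.H698.Dich
open Cfsg.Agent.H698.Fld
open scoped commutatorElement

universe u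

/-- The bound for groups of symplectic type. -/
def SympType : Prop := ∀ (C : Type u) [Group C] [Finite C] (A N : Subgroup C), A ≤ N → A ≤ Subgroup.center C →
  IsCyclic A → N.Normal → ∀ r : ℕ, r.Prime → (∀ x ∈ N, x ^ r ∈ A) → (∀ x ∈ N, ∀ y ∈ N, ⁅x, y⁆ ∈ A) →
  Subgroup.centralizer (N : Set C) ≤ A → ∃ j : ℕ, A.relIndex N = r ^ (2 * j) ∧ A.index ≤ r ^ (2 * j ^ 2 + 3 * j)

theorem pow_eq_one_of_comm {G : Type*} [Group G] {c x y : G} {r : ℕ} (hc : y * x * y⁻¹ = c * x)
    (hcx : c * x = x * c) (hxy : y * x ^ r = x ^ r * y) : c ^ r = 1 := by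
  have h1 : y * x ^ r * y⁻¹ = c ^ r * x ^ r := by
    rw [← conj_pow, hc]
    exact (show Commute c x from hcx).mul_pow r
  rw [hxy, mul_inv_cancel_right] at h1
  exact (mul_eq_right (a := c ^ r)).1 h1.symm

theorem sq_lt {n : ℕ} (hn : 4 ≤ n) : n ^ 2 < 11 ^ (n - 1) := by
  induction n, hn using Nat.le_induction with
  | base => norm_num
  | succ n hn ih =>
    have h1 : 11 ^ (n + 1 - 1) = 11 * 11 ^ (n - 1) := by
      rw [← pow_succ']
      congr 1
      omega
    rw [h1]
    nlinarith

/-- **The case without components.** -/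
theorem main {D E : Type u} [Group D] [Finite D] [AddCommGroup E] [Finite E] [Nontrivial E] [DistribMulAction D E]
    [FaithfulSMul D E] (hSymp : SympType.{u})
    (h2 : TwoOrb D E) {p n : ℕ} (hp : p.Prime) (hp11 : 11 ≤ p) (hpE : ∀ e : E, p • e = 0) (hcop : ¬ p ∣ Nat.card D)
    (hn : 4 ≤ n) (heven : 2 ∣ n) (hE : Nat.card E = p ^ n) (hni : ¬ Imprim D E)
    (hlay : ∀ K : Subgroup D, ¬ IsComponent K) :
    p ≤ 2 * Nat.card (ConjClasses D) := by
  have hpf : Fact p.Prime := ⟨hp⟩
  obtain ⟨A, hA⟩ := Set.Finite.exists_maximal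
    (s := {B : Subgroup D | B.Normal ∧ ∀ a ∈ B, ∀ b ∈ B, a * b = b * a}) (Set.toFinite _)
    ⟨⊥, inferInstance, fun a ha b hb => by rw [Subgroup.mem_bot.1 ha, Subgroup.mem_bot.1 hb]⟩
  obtain ⟨⟨hAn, hAc⟩, hmax⟩ := hA
  have hmax' : ∀ B : Subgroup D, B.Normal → (∀ a ∈ B, ∀ b ∈ B, a * b = b * a) → A ≤ B → B ≤ A :=
    fun B h1 h2 h3 => hmax ⟨h1, h2⟩ h3
  have hS : Scal E A := by
    rcases dich h2 hp hpE hcop A with h | h | h
    · exact absurd h hni
    · exact h.scal hAc
    · exact h
  obtain ⟨F, _, _, _, ⟨f⟩⟩ := exists_fd A hS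
  obtain ⟨a, ha1, hFa, hCa⟩ := f.numbers hp hpE
  have hfinFE : Module.Finite F E := Module.Finite.of_finite
  obtain ⟨m, hm⟩ : ∃ m, Module.finrank F E = m := ⟨_, rfl⟩
  have hnam : n = a * m := by
    have h3 := Module.natCard_eq_pow_finrank (K := F) (V := E)
    rw [hm, hFa, hE, ← pow_mul] at h3
    exact Nat.pow_right_injective hp.two_le h3
  have hm0 : m ≠ 0 := by
    rintro rfl
    omega
  have hDcard := Count.card_le h2
  rw [hE] at hDcard
  by_cases hC : Subgroup.centralizer (A : Set D) ≤ A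
  · have hidx : A.index ≤ a := by
      refine le_trans (Nat.le_of_dvd (Nat.pos_of_ne_zero Subgroup.index_ne_zero_of_finite)
        (Subgroup.index_dvd_of_le hC)) hCa
    refine Count.of_abelian hp.two_le (by omega) hDcard A hAc hidx ?_
    have h3 : a ≤ n := by
      rw [hnam]
      exact Nat.le_mul_of_pos_right _ (by omega)
    calc a ^ 2 ≤ n ^ 2 := Nat.pow_le_pow_left h3 2
      _ < 11 ^ (n - 1) := sq_lt hn
      _ ≤ p ^ (n - 1) := Nat.pow_le_pow_left hp11 _
  · obtain ⟨N, hNn, hAN, hNC, hcomm, r, hr, hpow⟩ := MinN.exists_min hlay hAn hAc hC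
    have hcen : ∀ x ∈ N, ∀ b ∈ A, b * x = x * b := fun x hx b hb =>
      Subgroup.mem_centralizer_iff.1 (hNC hx) b hb
    have hnonab : ¬ ∀ x ∈ N, ∀ y ∈ N, x * y = y * x := fun h => hAN.not_ge (hmax' N hNn h hAN.le)
    have hirr : Irred E N := by
      rcases dich h2 hp hpE hcop N with h | h | h
      · exact absurd h hni
      · exact h
      · exact absurd (fun x hx y hy => h.comm hx hy) hnonab
    have hcN : Subgroup.centralizer (N : Set D) ≤ A := by
      refine hmax' _ inferInstance ?_ ?_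
      · intro x hx y hy
        rw [Subgroup.mem_centralizer_iff] at hx hy
        exact centralizer_comm hirr hx hy
      · intro b hb
        rw [Subgroup.mem_centralizer_iff]
        intro x hx
        exact (hcen x hx b hb).symm
    obtain ⟨C, hCdef⟩ : ∃ C : Subgroup D, C = Subgroup.centralizer (A : Set D) := ⟨_, rfl⟩
    have hNC' : N ≤ C := by rw [hCdef]; exact hNC
    have hAC : A ≤ C := hAN.le.trans hNC'
    have hcyc : IsCyclic (A.subgroupOf C) := by
      have := f.isCyclic
      exact isCyclic_of_surjective (Subgroup.subgroupOfEquivOfLe hAC).symm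
        (Subgroup.subgroupOfEquivOfLe hAC).symm.surjective
    obtain ⟨j, hj1, hj2⟩ := hSymp C (A.subgroupOf C) (N.subgroupOf C) (Subgroup.comap_mono hAN.le) (by
        intro b hb
        rw [Subgroup.mem_center_iff]
        intro x
        apply Subtype.ext
        have hx : (x : D) ∈ Subgroup.centralizer (A : Set D) := hCdef ▸ x.2
        exact (Subgroup.mem_centralizer_iff.1 hx b hb).symm) hcyc (hNn.subgroupOf C) r hr
      (fun x hx => hpow x hx) (fun x hx y hy => hcomm x hx y hy) (by
        intro x hx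
        rw [Subgroup.mem_subgroupOf]
        apply hcN
        rw [Subgroup.mem_centralizer_iff] at hx ⊢
        intro y hy
        exact congrArg Subtype.val (hx ⟨y, hNC' hy⟩ hy))
    have hrel : A.relIndex N = r ^ (2 * j) := by
      rw [← hj1]
      have h3 : (A.subgroupOf C).relIndex (N.subgroupOf C) = A.relIndex N :=
        Subgroup.relIndex_subgroupOf hNC'
      exact h3.symm
    have hle := LinInd.relIndex_le f hNC hcomm (fun x hx h => hcN (by
      rw [Subgroup.mem_centralizer_iff]
      intro y hy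
      exact (h y hy).symm)) hm
    have hrm : r ^ j ≤ m := by
      rw [hrel, mul_comm 2 j, pow_mul] at hle
      exact (Nat.pow_le_pow_iff_left (by norm_num)).1 hle
    have hj : 1 ≤ j := by
      by_contra h
      have hj0 : j = 0 := by omega
      rw [hj0, mul_zero, pow_zero] at hrel
      exact hAN.not_ge (Subgroup.relIndex_eq_one.1 hrel)
    have hrα : r ∣ Nat.card A := by
      push Not at hnonab
      obtain ⟨x, hx, y, hy, hxy⟩ := hnonab
      have hc := hcomm y hy x hx
      have h3 : ⁅y, x⁆ ^ r = 1 := by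
        refine pow_eq_one_of_comm (x := x) (y := y) ?_ (hcen x hx _ hc) ?_
        · rw [commutatorElement_def]
          group
        · exact (hcen y hy _ (hpow x hx)).symm
      have h4 : ⁅y, x⁆ ≠ 1 := by
        rw [Ne, commutatorElement_eq_one_iff_mul_comm]
        exact fun h => hxy h.symm
      have h5 : orderOf (⟨⁅y, x⁆, hc⟩ : A) = r := by
        have h6 : (⟨⁅y, x⁆, hc⟩ : A) ^ r = 1 := Subtype.ext h3
        rcases (Nat.dvd_prime hr).1 (orderOf_dvd_of_pow_eq_one h6) with h7 | h7
        · exact absurd (congrArg Subtype.val (orderOf_eq_one_iff.1 h7)) h4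
        · exact h7
      rw [← h5]
      exact orderOf_dvd_natCard _
    have hα : Nat.card A ∣ p ^ a - 1 := by
      rw [← hFa]
      exact f.card_dvd
    obtain ⟨z, hz1, hz2⟩ := Count.count A hCa
    have hQ : Nat.card (D ⧸ A) ≤ a * r ^ (2 * j ^ 2 + 3 * j) := by
      have h3 : A.relIndex C * C.index = A.index := Subgroup.relIndex_mul_index hAC
      have h4 : A.relIndex C ≤ r ^ (2 * j ^ 2 + 3 * j) := hj2
      have h5 : C.index ≤ a := by rw [hCdef]; exact hCa
      change A.index ≤ _
      rw [← h3, mul_comm a]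
      exact Nat.mul_le_mul h4 h5
    have hDA : Nat.card D = Nat.card A * Nat.card (D ⧸ A) := by
      rw [mul_comm]
      exact Subgroup.card_eq_card_quotient_mul_card_subgroup A
    have hnt : Nontrivial (D ⧸ A) := by
      rw [← Finite.one_lt_card_iff_nontrivial]
      have h3 : A.index ≠ 1 := fun h => hC (by rw [Subgroup.index_eq_one.1 h]; exact le_top)
      have h4 : A.index ≠ 0 := Subgroup.index_ne_zero_of_finite
      change 1 < A.index
      omega
    have hκ2 : 2 ≤ Nat.card (ConjClasses (D ⧸ A)) := by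
      obtain ⟨q, hq⟩ := exists_ne (1 : D ⧸ A)
      have : Nontrivial (ConjClasses (D ⧸ A)) := ⟨ConjClasses.mk q, ConjClasses.mk 1, fun h => hq (by
        rw [ConjClasses.mk_eq_mk_iff_isConj, isConj_comm, isConj_one_right] at h
        exact h)⟩
      exact Finite.one_lt_card_iff_nontrivial.2 this
    refine NumE.main (α := Nat.card A) (Q := Nat.card (D ⧸ A)) hp hp11 hn heven hnam hr hj hrm hrα hα hz1 hQ
      (by rw [← hDA]; exact hDcard) hz2 hκ2 ?_ ?_
    · intro h
      exact Landau.le_1806 h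
    · intro h
      exact Landau.le_3263442 h

end Cfsg.Agent.H698.CaseE
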