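import Mathlib
import Cfsg.Agent.H698.CaseS
import Cfsg.Agent.H698.CaseE
import Cfsg.Agent.H697.ThreeImp
import Cfsg.Agent.H697.ThreeRes
import Cfsg.Agent.H697.ThreeB
import Cfsg.Agent.H697.SympType

/-!
# The linear statement from the condition on simple groups
-/

set_option autoImplicit false

namespace Cfsg.Agent.H698.MainRes

open Cfsg Module

universe u

theorem sympType : CaseE.SympType.{u} := by
  intro C _ _ A N hAN hA hAc hN r hr hpow hcomm hcent
  have : Fact r.Prime := ⟨hr⟩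
  exact H697.SympType.main hAN hA hAc hN hpow (fun x hx y hy => hcomm x hx y hy) hcent

/-- **The remaining linear statement.** -/
theorem res (hF : ∀ (T : Type u) [Group T] [Finite T] [IsSimpleGroup T], ¬ IsMulCommutative T → Fine.{u, u} T)
    (p : ℕ) [hpf : Fact p.Prime] : H697.Three.ResStmt.{u} p := by
  intro V _ _ _ _ H hpH hp11 hirr m hm hfr v₁ v₂ hv₁ hv₂ hne hall hs₁ hs₂ hd₁ hd₂
  have hp : p.Prime := hpf.out
  have hfinG : Finite (V ≃ₗ[ZMod p] V) := Finite.of_injective (fun g : V ≃ₗ[ZMod p] V => (g : V → V)) DFunLike.coe_injective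
  have hfin : Finite H := inferInstance
  have h2 : Orb.TwoOrb H V := by
    refine ⟨v₁, v₂, fun w hw => ?_⟩
    rcases hall w hw with ⟨h, hh, h1⟩ | ⟨h, hh, h1⟩
    · exact Or.inl ⟨⟨h, hh⟩, h1⟩
    · exact Or.inr ⟨⟨h, hh⟩, h1⟩
  have hpE : ∀ e : V, p • e = 0 := fun e => by
    rw [← Nat.cast_smul_eq_nsmul (ZMod p), CharP.cast_eq_zero, zero_smul]
  have hE : Nat.card V = p ^ (2 * m) := by
    rw [Module.natCard_eq_pow_finrank (K := ZMod p), Nat.card_zmod, hfr]
  have hfs : FaithfulSMul H V := ⟨fun {x y} h => Subtype.ext (LinearEquiv.ext fun v => h v)⟩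
  by_cases hI : Idem.Imprim H V
  · exact H697.ThreeImp.main hpE hpH (by rw [hE]; exact Nat.pow_le_pow_right hp.pos (by omega)) h2 hI
  · by_cases hK : ∃ K : Subgroup H, IsComponent K
    · obtain ⟨K, hK⟩ := hK
      exact CaseS.main hF h2 hp hp11 hpE hpH (by omega) hE hI hK
    · push Not at hK
      exact CaseE.main sympType h2 hp hp11 hpE hpH (by omega) ⟨m, rfl⟩ hE hI hK

/-- **S4881 from the condition on simple groups.** -/
theorem final (hF : ∀ (T : Type u) [Group T] [Finite T] [IsSimpleGroup T], ¬ IsMulCommutative T → Fine.{u, u} T)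
    {G : Type u} [Group G] [Finite G] (p : ℕ) [Fact p.Prime]
    (hsolv : Cfsg.IsPSolvable p G)
    (h3 : Nat.card {c : ConjClasses G // ∃ g : G, ConjClasses.mk g = c ∧ ∃ k : ℕ, orderOf g = p ^ k} = 3) :
    p - 1 ≤ 2 * Nat.card {c : ConjClasses G // ∃ g : G, ConjClasses.mk g = c ∧ ¬ p ∣ orderOf g} ∧
      (2 * Nat.card {c : ConjClasses G // ∃ g : G, ConjClasses.mk g = c ∧ ¬ p ∣ orderOf g} = p - 1 ↔
        (p ≠ 2 ∧ 2 * Nat.card G = p * (p - 1) ∧
          ∃ f : G →* ↥(Cfsg.affineGroup (ZMod p)), Function.Injective f)) :=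
  H697.Three.final (H697.Three.lin_of_res (res hF p)) hsolv h3

end Cfsg.Agent.H698.MainRes
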